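import Cfsg.Agent.Lib.Char.TransClasses.Count
import Cfsg.Agent.Lib.Solv.EqualOrderAffine
import Cfsg.Agent.Lib.Fusion.Cores

/-!
# The regular cases: Frobenius groups and the affine group
-/

set_option autoImplicit false
set_option linter.unusedSectionVars false
set_option linter.style.haveILetI false

namespace Cfsg.Agent.Char.TransClass

open scoped Pointwise

variable {p : ℕ} [Fact p.Prime] {Q : Type*} [Group Q] [Finite Q] {V H : Subgroup Q}

/-- In dimension one the linear group is abelian and regular. -/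
theorem line_facts {E : Type*} [Group E] [Finite E] (ρ : E →* GL (Fin 1) (ZMod p)) (hρ : Function.Injective ρ)
    (htr : ∀ v w : Fin 1 → ZMod p, v ≠ 0 → w ≠ 0 → ∃ g : E, KThree.act ρ g v = w) :
    Nat.card E = p - 1 ∧ Nat.card (ConjClasses E) = p - 1 := by
  obtain ⟨v, hv⟩ := exists_ne (0 : Fin 1 → ZMod p)
  have happ : ∀ (g : E) (w : Fin 1 → ZMod p) (i : Fin 1), KThree.act ρ g w i = (ρ g : Matrix (Fin 1) (Fin 1) (ZMod p)) 0 0 * w 0 := by
    intro g w i
    rw [Subsingleton.elim i 0]
    simp [KThree.act, Matrix.toLin'_apply, Matrix.mulVec, dotProduct]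
  have hv0 : v 0 ≠ 0 := fun h => hv (funext fun i => by rw [Subsingleton.elim i 0, h]; rfl)
  have hext : ∀ g h : E, (ρ g : Matrix (Fin 1) (Fin 1) (ZMod p)) 0 0 = (ρ h : Matrix (Fin 1) (Fin 1) (ZMod p)) 0 0 → g = h :=
    fun g h e => hρ (Units.ext (Matrix.ext fun i j => by rw [Subsingleton.elim i 0, Subsingleton.elim j 0, e]))
  have hstab : Nat.card {g : E // KThree.act ρ g v = v} = 1 := by
    rw [Nat.card_eq_one_iff_unique]
    refine ⟨⟨fun g h => Subtype.ext (hext _ _ (mul_right_cancel₀ hv0 ?_))⟩, ⟨⟨1, by rw [KThree.act_one]; rfl⟩⟩⟩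
    rw [← happ g.1 v 0, ← happ h.1 v 0, g.2, h.2]
  have hcard : Nat.card E = p - 1 := by
    rw [KThree.orbit_stab ρ hv (fun w hw => htr v w hv hw), hstab, pow_one, mul_one]
  haveI : IsMulCommutative E := ⟨⟨fun g h => hext _ _ (by
    simp only [map_mul, Units.val_mul, Matrix.mul_apply, Fin.sum_univ_one]
    exact mul_comm _ _)⟩⟩
  letI : CommGroup E := { (inferInstance : Group E) with mul_comm := fun g h => IsMulCommutative.is_comm.comm g h }
  exact ⟨hcard, (Nat.card_congr ConjClasses.mkEquiv).symm.trans hcard⟩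

namespace Setup

theorem card_eq (S : Setup p V H) : Nat.card Q = Nat.card H * Nat.card V := S.compl.card_mul_card.symm

/-- Regular fibres. -/
theorem count_regular (S : Setup p V H) (π : Q →* H) (hπH : ∀ h : H, π h = h)
    (hπ : ∀ q : Q, q * ((π q : H) : Q)⁻¹ ∈ V) (hcard : Nat.card H + 1 = Nat.card V) :
    regNum p Q = Nat.card (ConjClasses H) := by
  refine count_eq π (fun h => ⟨h, hπH h⟩) S.coprime ?_
  obtain ⟨-, hmove⟩ := S.regular hcard
  have hnorm : ∀ g : Q, ¬ p ∣ orderOf g → IsConj g ((π g : H) : Q) := by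
    intro g hg
    have e : g = (g * ((π g : H) : Q)⁻¹) * ((π g : H) : Q) := (inv_mul_cancel_right _ _).symm
    by_cases h1 : π g = 1
    · have hgV : g ∈ V := by simpa [h1] using hπ g
      have h2 : g = 1 := by
        by_contra hne
        exact hg (by rw [orderOf_eq_prime (S.exp g hgV) hne])
      rw [h2, map_one, Subgroup.coe_one]
    · obtain ⟨w, -, hw⟩ := hmove _ (π g).2 (fun h => h1 (Subtype.ext h)) _ (hπ g)
      exact (isConj_iff.2 ⟨w, hw.trans e.symm⟩ : IsConj ((π g : H) : Q) g).symm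
  exact fun g g' hg hg' h => (hnorm g hg).trans ((H.subtype.map_isConj h).trans (hnorm g' hg').symm)

/-- The complement of a regular setup is a Frobenius complement. -/
theorem frobenius (S : Setup p V H) (π : Q →* H) (hπH : ∀ h : H, π h = h) (hπV : ∀ v ∈ V, π v = 1)
    (hπ : ∀ q : Q, q * ((π q : H) : Q)⁻¹ ∈ V) (hcard : Nat.card H + 1 = Nat.card V) (hne : H ≠ ⊥) :
    Cfsg.IsFrobeniusComplement H := by
  obtain ⟨hfree, -⟩ := S.regular hcard
  refine ⟨hne, fun h => S.nt (Subgroup.card_eq_one.1 ?_), fun g hg => ?_⟩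
  · have := S.card_eq
    rw [h, Subgroup.card_top] at this
    exact (Nat.eq_of_mul_eq_mul_left Nat.card_pos (this.symm.trans (mul_one _).symm))
  rw [eq_bot_iff]
  intro x hx
  obtain ⟨hxH, hxg⟩ := hx
  rw [Subgroup.mem_bot]
  by_contra hx1
  obtain ⟨y, hy, hyx⟩ := hxg
  change g * y * g⁻¹ = x at hyx
  set c : Q := ((π g : H) : Q)
  set v := g * c⁻¹ with hv
  have hgvc : g = v * c := (inv_mul_cancel_right g c).symm
  have hy' : c * y * c⁻¹ ∈ H := H.mul_mem (H.mul_mem (π g).2 hy) (H.inv_mem (π g).2)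
  have h1 : v * (c * y * c⁻¹) * v⁻¹ = x := by rw [← hyx, hgvc]; group
  have h2 : c * y * c⁻¹ = x := by
    have := congrArg π h1
    rw [map_mul, map_mul, map_inv, hπV v (hπ g), one_mul, inv_one, mul_one] at this
    rw [show π x = ⟨x, hxH⟩ from hπH ⟨x, hxH⟩, show π (c * y * c⁻¹) = ⟨_, hy'⟩ from hπH ⟨_, hy'⟩] at this
    exact congrArg Subtype.val this
  rw [h2, mul_inv_eq_iff_eq_mul] at h1
  refine hg ?_
  rw [hgvc, hfree x hxH hx1 v (hπ g) h1, one_mul]
  exact (π g).2

/-- Dimension one: the affine group. -/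
theorem affine (S : Setup p V H) (π : Q →* H)
    (hπ : ∀ q : Q, q * ((π q : H) : Q)⁻¹ ∈ V) (hV : Nat.card V = p) (hH : Nat.card H = p - 1) :
    Nonempty (Q ≃* ↥(Cfsg.affineGroup (ZMod p))) := by
  classical
  haveI := S.nrm
  let e : Multiplicative (ZMod p) ≃* V := mulEquivOfPrimeCardEq (p := p) (by simp) hV
  let T : Q → ZMod p → ZMod p := fun q x =>
    Multiplicative.toAdd (e.symm ⟨q * (e (Multiplicative.ofAdd x) : Q) * ((π q : H) : Q)⁻¹, by
      have h := V.mul_mem (hπ q) (S.nrm.conj_mem _ (e (Multiplicative.ofAdd x)).2 ((π q : H) : Q))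
      convert h using 1
      group⟩)
  have hT : ∀ q x, (e (Multiplicative.ofAdd (T q x)) : Q) = q * (e (Multiplicative.ofAdd x) : Q) * ((π q : H) : Q)⁻¹ := by
    intro q x
    simp only [T, ofAdd_toAdd, MulEquiv.apply_symm_apply]
  have heinj : ∀ x y : ZMod p, (e (Multiplicative.ofAdd x) : Q) = e (Multiplicative.ofAdd y) → x = y :=
    fun x y h => Multiplicative.ofAdd.injective (e.injective (Subtype.ext h))
  have hmul : ∀ q r x, T (q * r) x = T q (T r x) := fun q r x => heinj _ _ (by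
    rw [hT, hT, hT, map_mul, Subgroup.coe_mul]; group)
  have hone : ∀ x, T 1 x = x := fun x => heinj _ _ (by rw [hT, map_one, Subgroup.coe_one]; group)
  let σ : Q →* Equiv.Perm (ZMod p) :=
    { toFun := fun q => ⟨T q, T q⁻¹, fun x => by rw [← hmul, inv_mul_cancel, hone],
        fun x => by rw [← hmul, mul_inv_cancel, hone]⟩
      map_one' := Equiv.ext hone
      map_mul' := fun q r => Equiv.ext (hmul q r) }
  have hinj : Function.Injective σ := (injective_iff_map_eq_one σ).2 fun q hq => by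
    have hq' : ∀ x, T q x = x := fun x => Equiv.congr_fun hq x
    have h0 := hT q 0
    rw [hq', ofAdd_zero, map_one, Subgroup.coe_one, mul_one] at h0
    have hqc : q = ((π q : H) : Q) := mul_inv_eq_one.1 h0.symm
    rw [hqc]
    refine S.faith _ (π q).2 fun v hv => ?_
    have h1 := hT q (Multiplicative.toAdd (e.symm ⟨v, hv⟩))
    rw [hq', ofAdd_toAdd, MulEquiv.apply_symm_apply] at h1
    rw [← hqc] at h1 ⊢
    exact (mul_inv_eq_iff_eq_mul.1 h1.symm)
  have hmem : ∀ q, σ q ∈ Cfsg.affineGroup (ZMod p) := by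
    intro q
    let A : ZMod p →+ ZMod p := AddMonoidHom.mk' (fun x => T q x - T q 0) fun x y => by
      have : T q (x + y) + T q 0 = T q x + T q y := heinj _ _ (by
        simp only [ofAdd_add, map_mul, Subgroup.coe_mul, hT, ofAdd_zero, map_one, Subgroup.coe_one, mul_one]
        set c : Q := ((π q : H) : Q)
        set u : Q := (e (Multiplicative.ofAdd x) : Q)
        set w : Q := (e (Multiplicative.ofAdd y) : Q)
        have hcomm : c * w * c⁻¹ * (q * c⁻¹) = q * c⁻¹ * (c * w * c⁻¹) :=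
          S.comm _ (S.nrm.conj_mem w (e (Multiplicative.ofAdd y)).2 c) _ (hπ q)
        calc q * (u * w) * c⁻¹ * (q * c⁻¹) = q * u * c⁻¹ * (c * w * c⁻¹ * (q * c⁻¹)) := by group
          _ = q * u * c⁻¹ * (q * w * c⁻¹) := by rw [hcomm]; group)
      linear_combination this
    have hA : ∀ x, A x = A 1 * x := fun x => by
      conv_lhs => rw [← ZMod.natCast_zmod_val x, ← nsmul_one x.val, map_nsmul, nsmul_eq_mul, ZMod.natCast_zmod_val]
      exact mul_comm _ _
    have hA1 : A 1 ≠ 0 := fun h => one_ne_zero ((σ q).injective (show T q 1 = T q 0 from sub_eq_zero.1 h))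
    refine ⟨Units.mk0 _ hA1, T q 0, fun x => ?_⟩
    rw [Units.val_mk0, ← hA]
    exact (sub_add_cancel _ _).symm
  refine ⟨MulEquiv.ofBijective (σ.codRestrict _ hmem) ?_⟩
  have hi : Function.Injective (σ.codRestrict _ hmem) := fun q r h => hinj (congrArg Subtype.val h)
  refine (Nat.bijective_iff_injective_and_card _).2 ⟨hi, le_antisymm (Nat.card_le_card_of_injective _ hi) ?_⟩
  have := Solv.EqualOrderAffine.card_affine_le (R := ZMod p) (a := p - 1) (by
    rw [Nat.card_eq_fintype_card, ZMod.card_units])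
  rw [Nat.card_zmod] at this
  rw [S.card_eq, hH, hV]
  exact this

end Setup

end Cfsg.Agent.Char.TransClass
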