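import Cfsg.Agent.Lib.Char.KThree.Arith
import Mathlib

/-!
# Primitive primes at most `2 a + 1`

If all of them are that small, the part of `p ^ a - 1` at one of them exceeds `a (p - 1)`, except `a = 6` with
both `7` and `13`.
-/

set_option autoImplicit false

namespace Cfsg.Agent.Char.TransClass

open Polynomial KThree

theorem pow_big (f : ℕ) (hf : 9 ≤ f) : 2 * f ^ 2 * ((2 * f ^ 2 + 1) * (4 * f ^ 2 + 1)) < 6 ^ f := by
  induction f, hf using Nat.le_induction with
  | base => norm_num
  | succ n hn ih =>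
    have h0 : 4 * (n + 1) ^ 2 ≤ 5 * n ^ 2 := by nlinarith
    have h1 : 2 * (n + 1) ^ 2 * 4 ≤ 5 * (2 * n ^ 2) := by nlinarith
    have h2 : (2 * (n + 1) ^ 2 + 1) * 4 ≤ 6 * (2 * n ^ 2 + 1) := by nlinarith
    have h3 : (4 * (n + 1) ^ 2 + 1) * 4 ≤ 6 * (4 * n ^ 2 + 1) := by nlinarith
    have h := Nat.mul_le_mul h1 (Nat.mul_le_mul h2 h3)
    ring_nf at h ih ⊢
    omega

theorem small_tables : ∀ a ∈ Finset.range 129, 3 ≤ a →
    (Nat.totient a ≤ 5 → Nat.totient a = 2 ∧ (a = 3 ∨ a = 4 ∨ a = 6) ∨ Nat.totient a = 4 ∧ (a = 5 ∨ a = 8 ∨ a = 10 ∨ a = 12)) ∧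
    (6 ≤ Nat.totient a → Nat.totient a ≤ 8 → a * ((a + 1) * (2 * a + 1)) < 6 ^ Nat.totient a) := by
  decide +kernel

theorem totient_bound {a : ℕ} (ha : 0 < a) : a ≤ 2 * Nat.totient a ^ 2 := by
  obtain ⟨n, t, hnt, hsf, hpr, -⟩ := PrimPart.reduce a ha
  have ht0 : 0 < t := Nat.pos_of_ne_zero fun h => by rw [h, mul_zero] at hnt; omega
  have hn0 : n ≠ 0 := hsf.ne_zero
  have hpf : a.primeFactors = n.primeFactors := by
    ext q
    simp only [Nat.mem_primeFactors]
    exact ⟨fun ⟨h1, h2, _⟩ => ⟨h1, (hpr q h1).2 h2, hn0⟩, fun ⟨h1, h2, _⟩ => ⟨h1, (hpr q h1).1 h2, ha.ne'⟩⟩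
  have ht : Nat.totient a = t * Nat.totient n := by
    have h1 := Nat.totient_mul_prod_primeFactors a
    have h2 := Nat.totient_mul_prod_primeFactors n
    rw [hpf] at h1
    have h3 : 0 < ∏ q ∈ n.primeFactors, q := Finset.prod_pos fun q hq => (Nat.prime_of_mem_primeFactors hq).pos
    apply Nat.eq_of_mul_eq_mul_right h3
    rw [h1, mul_assoc, h2, hnt]
    ring
  calc a = n * t := hnt
    _ ≤ 2 * Nat.totient n ^ 2 * t ^ 2 := Nat.mul_le_mul (PrimPart.sqfree_le n hsf).1 (Nat.le_self_pow two_ne_zero t)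
    _ = 2 * Nat.totient a ^ 2 := by rw [ht]; ring

theorem eval_two {p : ℕ} :
    (cyclotomic 3 ℤ).eval (p : ℤ) = (p : ℤ) ^ 2 + p + 1 ∧ (cyclotomic 4 ℤ).eval (p : ℤ) = (p : ℤ) ^ 2 + 1 ∧
      (cyclotomic 6 ℤ).eval (p : ℤ) = (p : ℤ) ^ 2 - p + 1 := by
  refine ⟨?_, ?_, ?_⟩
  · haveI : Fact (Nat.Prime 3) := ⟨Nat.prime_three⟩
    rw [cyclotomic_prime ℤ 3]
    simp [Finset.sum_range_succ]
    ring
  · rw [show (4 : ℕ) = 2 ^ (1 + 1) from rfl, cyclotomic_prime_pow_eq_geom_sum Nat.prime_two]
    simp [Finset.sum_range_succ]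
    ring
  · rw [cyclotomic_six]
    simp

theorem prime_dvd_modEq {p a r : ℕ} (hp : p.Prime) (ha : 0 < a) (hr : IsPrim p a r) : a ∣ r - 1 := by
  haveI := Fact.mk hr.1
  have h1 : ∀ j, 1 ≤ p ^ j := fun j => Nat.one_le_pow _ _ hp.pos
  have hcast : ∀ j, r ∣ p ^ j - 1 ↔ ((p : ZMod r)) ^ j = 1 := fun j => by
    rw [← ZMod.natCast_eq_zero_iff, Nat.cast_sub (h1 j), Nat.cast_pow, Nat.cast_one, sub_eq_zero]
  have hne : (p : ZMod r) ≠ 0 := fun h => by
    have := (hcast a).1 hr.2.1
    rw [h, zero_pow ha.ne'] at this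
    exact zero_ne_one this
  have ho : orderOf (p : ZMod r) = a :=
    (orderOf_eq_iff ha).2 ⟨(hcast a).1 hr.2.1, fun m hm hm0 h => hr.2.2 m hm0 hm ((hcast m).2 h)⟩
  exact ho ▸ orderOf_dvd_of_pow_eq_one (ZMod.pow_card_sub_one_eq_one hne)

theorem six_small {p : ℕ} (hp : p.Prime) (hp7 : 7 ≤ p) (h19 : p < 19)
    (hsmall : ∀ r, IsPrim p 6 r → r ≤ 2 * 6 + 1) (h6 : (6 : ℕ) = 6 → IsPrim p 6 7 → ¬ IsPrim p 6 13) : False := by
  have key : p = 7 ∨ p = 11 ∨ p = 13 ∨ p = 17 := by
    interval_cases p <;> first | omega | (norm_num at hp)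
  rcases key with rfl | rfl | rfl | rfl
  · have := hsmall 43 ⟨by norm_num, by norm_num, fun k hk hka => by interval_cases k <;> norm_num⟩
    omega
  · have := hsmall 37 ⟨by norm_num, by norm_num, fun k hk hka => by interval_cases k <;> norm_num⟩
    omega
  · have := hsmall 157 ⟨by norm_num, by norm_num, fun k hk hka => by interval_cases k <;> norm_num⟩
    omega
  · exact h6 rfl ⟨by norm_num, by norm_num, fun k hk hka => by interval_cases k <;> norm_num⟩
      ⟨by norm_num, by norm_num, fun k hk hka => by interval_cases k <;> norm_num⟩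

set_option maxHeartbeats 1000000 in
/-- All primitive primes small: a large prime part, or `a = 6` with `7` and `13`. -/
theorem prim_part {p a : ℕ} (hp : p.Prime) (hp7 : 7 ≤ p) (ha : 3 ≤ a) :
    (∃ r, IsPrim p a r ∧ 2 * a + 1 < r) ∨
      (∃ r v, IsPrim p a r ∧ r ^ v ∣ p ^ a - 1 ∧ 0 < v ∧ a * (p - 1) < r ^ v - 1 + a) ∨
      (a = 6 ∧ IsPrim p 6 7 ∧ IsPrim p 6 13) := by
  rcases em (∃ r, IsPrim p a r ∧ 2 * a + 1 < r) with h | hsmall
  · exact Or.inl h
  push Not at hsmall
  right
  by_contra hcon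
  push Not at hcon
  obtain ⟨hM, h6⟩ := hcon
  obtain ⟨s, hs, hsa, hmax⟩ : ∃ s : ℕ, s.Prime ∧ s ∣ a ∧ ∀ s' : ℕ, s'.Prime → s' ∣ a → s' ≤ s := by
    have hne : a.primeFactors.Nonempty := Nat.nonempty_primeFactors.2 (by omega)
    obtain ⟨r, hr, hmax⟩ := Finset.exists_max_image a.primeFactors id hne
    rw [Nat.mem_primeFactors] at hr
    exact ⟨r, hr.1, hr.2.1, fun s hs hse => hmax s (Nat.mem_primeFactors.2 ⟨hs, hse, by omega⟩)⟩
  obtain ⟨u, hu, hucop, hle⟩ := PrimPart.exists_prim (q := p) hp.one_lt ha hs hsa hmax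
  have hsle : s ≤ a := Nat.le_of_dvd (by omega) hsa
  have hN0 : p ^ a - 1 ≠ 0 := by
    have : 7 ≤ p ^ a := hp7.trans (Nat.le_self_pow (by omega) p)
    omega
  have hu0 : u ≠ 0 := fun h => hN0 (Nat.eq_zero_of_zero_dvd (h ▸ hu))
  have hprim : ∀ q, q.Prime → q ∣ u → IsPrim p a q := fun q hq hqu =>
    ⟨hq, hqu.trans hu, fun k hk hka h => hq.not_dvd_one
      ((hucop k (Finset.mem_range.2 hka) (by omega)) ▸ Nat.dvd_gcd hqu h)⟩
  have htwo : ∀ q, q.Prime → q ∣ u → q = a + 1 ∨ q = 2 * a + 1 := by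
    intro q hq hqu
    obtain ⟨c, hc⟩ := prime_dvd_modEq hp (by omega) (hprim q hq hqu)
    have h1 := hsmall q (hprim q hq hqu)
    have h2 := hq.two_le
    have h3 : c < 3 := by
      by_contra h3
      have := Nat.mul_le_mul_left a (show 3 ≤ c by omega)
      omega
    interval_cases c <;> omega
  set A := (a + 1) ^ u.factorization (a + 1) with hA
  set B := (2 * a + 1) ^ u.factorization (2 * a + 1) with hB
  have hAB : u = A * B := by
    nth_rewrite 1 [← Nat.prod_factorization_pow_eq_self hu0]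
    rw [Finsupp.prod_of_support_subset _ (show u.factorization.support ⊆ {a + 1, 2 * a + 1} from fun q hq => by
      rw [Nat.support_factorization] at hq
      have := htwo q (Nat.prime_of_mem_primeFactors hq) (Nat.dvd_of_mem_primeFactors hq)
      simpa using this) _ (fun _ _ => pow_zero _), Finset.prod_pair (by omega)]
  -- each prime part is small
  have hpart : ∀ q, 2 ≤ q → q ^ u.factorization q - 1 + a ≤ a * (p - 1) := by
    intro q hq
    rcases Nat.eq_zero_or_pos (u.factorization q) with h | h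
    · rw [h, pow_zero]
      exact le_trans (by omega) (Nat.le_mul_of_pos_right a (by omega))
    · have hqp : q.Prime := Nat.prime_of_mem_primeFactors (Nat.support_factorization u ▸ Finsupp.mem_support_iff.2 h.ne')
      exact hM q _ (hprim q hqp ((hqp.dvd_iff_one_le_factorization hu0).2 h)) ((Nat.ordProj_dvd u q).trans hu) h
  have hA' := hpart (a + 1) (by omega)
  have hB' := hpart (2 * a + 1) (by omega)
  rw [← hA] at hA'
  rw [← hB] at hB'
  have hA1 : 1 ≤ A := Nat.one_le_pow _ _ (by omega)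
  have hB1 : 1 ≤ B := Nat.one_le_pow _ _ (by omega)
  set f := Nat.totient a with hf
  have hlow : (p - 1) ^ f < s * u := by
    have h := (S2904.lower (n := a) (a := p) (by omega) hp.one_lt).trans_le hle
    exact_mod_cast h
  have hlow' : (p - 1) ^ f < a * (A * B) := hAB ▸ hlow.trans_le (Nat.mul_le_mul_right u hsle)
  have hab : a ≤ 2 * f ^ 2 := totient_bound (by omega)
  rcases le_or_gt 6 f with hf6 | hf6
  · -- many primitive residues
    by_cases hexp : u.factorization (a + 1) ≤ 1 ∧ u.factorization (2 * a + 1) ≤ 1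
    · have h1 : A * B ≤ (a + 1) * (2 * a + 1) := Nat.mul_le_mul
        ((Nat.pow_le_pow_right (by omega) hexp.1).trans (pow_one _).le)
        ((Nat.pow_le_pow_right (by omega) hexp.2).trans (pow_one _).le)
      have h2 : 6 ^ f ≤ (p - 1) ^ f := Nat.pow_le_pow_left (by omega) f
      have h3 : a * ((a + 1) * (2 * a + 1)) < 6 ^ f := by
        rcases le_or_gt 9 f with hf9 | hf9
        · refine lt_of_le_of_lt (Nat.mul_le_mul hab (Nat.mul_le_mul ?_ ?_)) (pow_big f hf9) <;> omega
        · have : a ≤ 128 := hab.trans (by nlinarith)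
          exact (small_tables a (Finset.mem_range.2 (by omega)) ha).2 hf6 (by omega)
      have := Nat.mul_le_mul_left a h1
      omega
    · -- a square divides, so `a < p - 1`
      have hpa : a < p - 1 := by
        by_contra hpa
        have h1 : a * (p - 1) ≤ a * a := Nat.mul_le_mul_left a (by omega)
        rcases not_and_or.1 hexp with h | h
        · have : (a + 1) ^ 2 ≤ A := Nat.pow_le_pow_right (by omega) (by omega)
          nlinarith [show A ≤ a * (p - 1) by omega]
        · have : (2 * a + 1) ^ 2 ≤ B := Nat.pow_le_pow_right (by omega) (by omega)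
          nlinarith [show B ≤ a * (p - 1) by omega]
      have h1 : A * B ≤ (a * (p - 1)) * (a * (p - 1)) := Nat.mul_le_mul (by omega) (by omega)
      have h2 : (p - 1) ^ 6 ≤ (p - 1) ^ f := Nat.pow_le_pow_right (by omega) hf6
      have h3 : a * ((a * (p - 1)) * (a * (p - 1))) ≤ (p - 1) ^ 5 := by
        calc a * ((a * (p - 1)) * (a * (p - 1))) = a ^ 3 * (p - 1) ^ 2 := by ring
          _ ≤ (p - 1) ^ 3 * (p - 1) ^ 2 := Nat.mul_le_mul_right _ (Nat.pow_le_pow_left hpa.le 3)
          _ = (p - 1) ^ 5 := by ring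
      have h4 : (p - 1) ^ 5 ≤ (p - 1) ^ 6 := Nat.pow_le_pow_right (by omega) (by norm_num)
      have := Nat.mul_le_mul_left a h1
      omega
  · have hA0 : ¬ (a + 1).Prime → A = 1 := fun h => by rw [hA, Nat.factorization_eq_zero_of_not_prime _ h, pow_zero]
    have hB0 : ¬ (2 * a + 1).Prime → B = 1 := fun h => by rw [hB, Nat.factorization_eq_zero_of_not_prime _ h, pow_zero]
    have ha51 : a ≤ 50 := hab.trans (by nlinarith)
    rcases (small_tables a (Finset.mem_range.2 (by omega)) ha).1 (by omega) with ⟨hf2, ha'⟩ | ⟨hf4, ha'⟩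
    · obtain ⟨e3, e4, e6⟩ := eval_two (p := p)
      have hp7' : (7 : ℤ) ≤ p := by exact_mod_cast hp7
      have hs12 : ∀ n ∈ Finset.range 7, ∀ q ∈ Finset.range 7, q.Prime → q ∣ n → 3 ≤ n → q = 2 ∨ q = 3 ∨ q = 5 := by decide
      have hs3 : s ≤ 3 := by
        rcases ha' with rfl | rfl | rfl <;>
          rcases hs12 _ (by simp) s (Finset.mem_range.2 (by omega)) hs hsa (by norm_num) with rfl | rfl | rfl <;> first | omega | (norm_num at hsa)
      rcases ha' with rfl | rfl | rfl
      · rw [e3, hAB, hA0 (by norm_num)] at hle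
        push_cast at hle
        have : (B : ℤ) - 1 + 3 ≤ 3 * ((p : ℤ) - 1) := by
          have : ((B - 1 + 3 : ℕ) : ℤ) ≤ ((3 * (p - 1) : ℕ) : ℤ) := by exact_mod_cast hB'
          push_cast [Nat.cast_sub hB1, Nat.cast_sub hp.one_le] at this
          linarith
        have h1 := mul_le_mul_of_nonneg_right (show (s : ℤ) ≤ 3 by exact_mod_cast hs3) (Int.natCast_nonneg B)
        nlinarith
      · rw [e4, hAB, hB0 (by norm_num)] at hle
        have hs2 : s = 2 := by
          rcases hs12 4 (by simp) s (Finset.mem_range.2 (by omega)) hs hsa (by norm_num) with rfl | rfl | rfl <;> first | omega | (norm_num at hsa)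
        subst hs2
        push_cast at hle
        have : (A : ℤ) - 1 + 4 ≤ 4 * ((p : ℤ) - 1) := by
          have : ((A - 1 + 4 : ℕ) : ℤ) ≤ ((4 * (p - 1) : ℕ) : ℤ) := by exact_mod_cast hA'
          push_cast [Nat.cast_sub hA1, Nat.cast_sub hp.one_le] at this
          linarith
        nlinarith
      · rcases Nat.eq_zero_or_pos (u.factorization 7) with h7 | h7
        · have hA7 : A = 1 := by rw [hA]; simp [h7]
          rcases le_or_gt 19 p with h19 | h19
          · rw [e6, hAB, hA7] at hle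
            push_cast at hle
            have : (B : ℤ) - 1 + 6 ≤ 6 * ((p : ℤ) - 1) := by
              have : ((B - 1 + 6 : ℕ) : ℤ) ≤ ((6 * (p - 1) : ℕ) : ℤ) := by exact_mod_cast hB'
              push_cast [Nat.cast_sub hB1, Nat.cast_sub hp.one_le] at this
              linarith
            have : (19 : ℤ) ≤ p := by exact_mod_cast h19
            have h1 := mul_le_mul_of_nonneg_right (show (s : ℤ) ≤ 3 by exact_mod_cast hs3) (Int.natCast_nonneg B)
            nlinarith
          · exact six_small hp hp7 h19 hsmall h6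
        rcases Nat.eq_zero_or_pos (u.factorization 13) with h13 | h13
        · have hB13 : B = 1 := by rw [hB]; simp [h13]
          rcases le_or_gt 19 p with h19 | h19
          · rw [e6, hAB, hB13] at hle
            push_cast at hle
            have : (A : ℤ) - 1 + 6 ≤ 6 * ((p : ℤ) - 1) := by
              have : ((A - 1 + 6 : ℕ) : ℤ) ≤ ((6 * (p - 1) : ℕ) : ℤ) := by exact_mod_cast hA'
              push_cast [Nat.cast_sub hA1, Nat.cast_sub hp.one_le] at this
              linarith
            have : (19 : ℤ) ≤ p := by exact_mod_cast h19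
            have h1 := mul_le_mul_of_nonneg_right (show (s : ℤ) ≤ 3 by exact_mod_cast hs3) (Int.natCast_nonneg A)
            nlinarith
          · exact six_small hp hp7 h19 hsmall h6
        have h7p : Nat.Prime 7 := by norm_num
        have h13p : Nat.Prime 13 := by norm_num
        exact h6 rfl (hprim 7 h7p ((h7p.dvd_iff_one_le_factorization hu0).2 h7))
          (hprim 13 h13p ((h13p.dvd_iff_one_le_factorization hu0).2 h13))
    · -- totient four: one prime
      have hone : A = 1 ∨ B = 1 := by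
        rcases ha' with rfl | rfl | rfl | rfl
        · exact Or.inl (hA0 (by norm_num))
        · exact Or.inl (hA0 (by norm_num))
        · exact Or.inr (hB0 (by norm_num))
        · exact Or.inr (hB0 (by norm_num))
      have h1 : A * B ≤ a * (p - 1) := by
        rcases hone with h | h <;> rw [h] <;> omega
      rw [show f = 4 from hf4] at hlow'
      have h2 : a * (a * (p - 1)) ≤ (p - 1) ^ 4 := by
        have h3 : a * a ≤ 6 ^ 3 := by rcases ha' with rfl | rfl | rfl | rfl <;> norm_num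
        calc a * (a * (p - 1)) = a * a * (p - 1) := by ring
          _ ≤ (p - 1) ^ 3 * (p - 1) := Nat.mul_le_mul_right _ (h3.trans (Nat.pow_le_pow_left (by omega) 3))
          _ = (p - 1) ^ 4 := by ring
      have := Nat.mul_le_mul_left a h1
      omega

end Cfsg.Agent.Char.TransClass
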