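import Mathlib

/-!
# Counting conjugacy classes

A group with at most four classes has order at most `42`; a set meeting every class in at most `n` points gives
a lower bound for the number of classes.
-/

set_option autoImplicit false
set_option linter.unusedSectionVars false
set_option linter.style.haveILetI false

namespace Cfsg.Agent.Char.TransClass

open scoped Classical

variable {G : Type*} [Group G] [Finite G]

theorem three_arith {N s t u : ℕ} (ht : u ≤ t) (hs : t ≤ s) (hu : u ∣ N) (htN : t ∣ N) (hsN : s ∣ N)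
    (h : N = 1 + s + t + u) : N ≤ 42 := by
  obtain ⟨a, ha⟩ := hsN
  obtain ⟨b, hb⟩ := htN
  obtain ⟨c, hc⟩ := hu
  rcases Nat.eq_zero_or_pos u with hu0 | hu0
  · subst hu0; omega
  rcases le_or_gt N 42 with hN | hN
  · exact hN
  exfalso
  have ha4 : a ≤ 4 := by nlinarith
  have ha1 : 2 ≤ a := by nlinarith
  have hb8 : b ≤ 7 := by
    interval_cases a <;> nlinarith
  have hb2 : 2 ≤ b := by nlinarith
  have hc0 : 2 ≤ c := by nlinarith
  have hc14 : c ≤ 15 := by
    interval_cases a <;> interval_cases b <;> nlinarith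
  interval_cases a <;> interval_cases b <;> interval_cases c <;> omega

theorem two_arith {N s t : ℕ} (hs : t ≤ s) (htN : t ∣ N) (hsN : s ∣ N) (h : N = 1 + s + t) : N ≤ 42 := by
  obtain ⟨a, ha⟩ := hsN
  obtain ⟨b, hb⟩ := htN
  rcases le_or_gt N 42 with hN | hN
  · exact hN
  exfalso
  have ha4 : a ≤ 3 := by nlinarith
  have hb8 : b ≤ 7 := by
    interval_cases a <;> nlinarith
  interval_cases a <;> interval_cases b <;> omega

/-- The class sizes divide the order. -/
theorem carrier_dvd (c : ConjClasses G) : Nat.card c.carrier ∣ Nat.card G := by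
  induction c using Quotient.inductionOn with
  | h g =>
    have h1 := Subgroup.index_dvd_card (MulAction.stabilizer (ConjAct G) g)
    rw [MulAction.index_stabilizer, ConjAct.orbit_eq_carrier_conjClasses] at h1
    rw [Nat.card_coe_set_eq, Nat.card_congr ConjAct.ofConjAct.toEquiv.symm]
    exact h1

theorem card_eq_sum : Nat.card G = ∑ᶠ c : ConjClasses G, Nat.card c.carrier := by
  letI := Fintype.ofFinite G
  letI := Fintype.ofFinite (ConjClasses G)
  rw [finsum_eq_sum_of_fintype, ← Nat.card_sigma]
  exact Nat.card_congr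
    { toFun := fun g => ⟨ConjClasses.mk g, g, ConjClasses.mem_carrier_mk⟩
      invFun := fun x => x.2
      left_inv := fun _ => rfl
      right_inv := fun ⟨c, g, hg⟩ => by
        obtain rfl := ConjClasses.mem_carrier_iff_mk_eq.1 hg
        rfl }

/-- Few classes, small group. -/
theorem card_le_of_classes (h : Nat.card (ConjClasses G) ≤ 4) : Nat.card G ≤ 42 := by
  letI := Fintype.ofFinite G
  letI := Fintype.ofFinite (ConjClasses G)
  set one := ConjClasses.mk (1 : G)
  have hone : Nat.card one.carrier = 1 := by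
    rw [Nat.card_coe_set_eq, Set.ncard_eq_one]
    refine ⟨1, Set.ext fun g => ?_⟩
    rw [ConjClasses.mem_carrier_iff_mk_eq, ConjClasses.mk_eq_mk_iff_isConj, isConj_comm, isConj_one_right,
      Set.mem_singleton_iff]
  have hsum := card_eq_sum (G := G)
  rw [finsum_eq_sum_of_fintype, ← Finset.add_sum_erase _ _ (Finset.mem_univ one), hone] at hsum
  set L := ((Finset.univ.erase one).toList.map fun c => Nat.card c.carrier).mergeSort (fun a b => decide (b ≤ a)) with hL
  have hLp : L.Perm ((Finset.univ.erase one).toList.map fun c => Nat.card c.carrier) := List.mergeSort_perm _ _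
  have hlen : L.length ≤ 3 := by
    rw [hLp.length_eq, List.length_map, Finset.length_toList, Finset.card_erase_of_mem (Finset.mem_univ one),
      Finset.card_univ, ← Nat.card_eq_fintype_card]
    omega
  have hLsum : L.sum = ∑ c ∈ Finset.univ.erase one, Nat.card c.carrier := by
    rw [hLp.sum_eq, Finset.sum_map_toList]
  rw [← hLsum] at hsum
  have hdvd : ∀ x ∈ L, x ∣ Nat.card G := fun x hx => by
    obtain ⟨c, -, rfl⟩ := List.mem_map.1 (hLp.mem_iff.1 hx)
    exact carrier_dvd c
  have hle : ∀ x ∈ L, x ∣ Nat.card G ∧ 1 + x ≤ Nat.card G := fun x hx =>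
    ⟨hdvd x hx, by have := List.le_sum_of_mem hx; omega⟩
  match L, hlen, hsum, hle with
  | [], _, hsum, _ => simp only [List.sum_nil] at hsum; omega
  | [x], _, hsum, hle =>
    obtain ⟨hx, -⟩ := hle x (by simp)
    simp only [List.sum_cons, List.sum_nil, add_zero] at hsum
    rw [hsum] at hx
    rw [Nat.dvd_add_self_right, Nat.dvd_one] at hx
    omega
  | [x, y], _, hsum, hle =>
    obtain ⟨hx, -⟩ := hle x (by simp)
    obtain ⟨hy, -⟩ := hle y (by simp)
    simp only [List.sum_cons, List.sum_nil, add_zero] at hsum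
    rcases le_total y x with hxy | hxy
    · exact two_arith hxy hy hx (by omega)
    · exact two_arith hxy hx hy (by omega)
  | [x, y, z], _, hsum, hle =>
    obtain ⟨hx, -⟩ := hle x (by simp)
    obtain ⟨hy, -⟩ := hle y (by simp)
    obtain ⟨hz, -⟩ := hle z (by simp)
    simp only [List.sum_cons, List.sum_nil, add_zero] at hsum
    rcases le_total y x with hxy | hxy <;> rcases le_total z y with hyz | hyz <;> rcases le_total z x with hxz | hxz <;>
      first
        | exact three_arith hyz hxy hz hy hx (by omega)
        | exact three_arith hxz hxy hz hx hy (by omega)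
        | exact three_arith hxy hxz hy hx hz (by omega)
        | exact three_arith hxz hyz hx hz hy (by omega)
        | exact three_arith hxy hyz hx hy hz (by omega)
        | exact three_arith hyz hxz hy hz hx (by omega)
        | omega
  | _ :: _ :: _ :: _ :: _, hlen, _, _ => simp at hlen; omega

/-- A set avoiding `1` and meeting every class at most `n` times. -/
theorem classes_ge (T : Set G) (n : ℕ) (h1 : (1 : G) ∉ T)
    (hn : ∀ x ∈ T, Nat.card {y : G // y ∈ T ∧ IsConj x y} ≤ n) :
    Nat.card T + n ≤ n * Nat.card (ConjClasses G) := by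
  letI := Fintype.ofFinite G
  letI := Fintype.ofFinite (ConjClasses G)
  set S := T.toFinset
  have himg : (S.image ConjClasses.mk) ⊆ Finset.univ.erase (ConjClasses.mk (1 : G)) := fun c hc => by
    obtain ⟨x, hx, rfl⟩ := Finset.mem_image.1 hc
    refine Finset.mem_erase.2 ⟨fun e => h1 ?_, Finset.mem_univ _⟩
    rw [ConjClasses.mk_eq_mk_iff_isConj, isConj_one_left] at e
    rw [← e]
    exact Set.mem_toFinset.1 hx
  have hc := Finset.card_le_mul_card_image (f := ConjClasses.mk) S n fun c hc => by
    obtain ⟨x, hx, rfl⟩ := Finset.mem_image.1 hc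
    refine le_trans (le_of_eq ?_) (hn x (Set.mem_toFinset.1 hx))
    rw [Nat.card_eq_fintype_card, Fintype.card_subtype]
    congr 1
    ext y
    simp only [Finset.mem_filter, Finset.mem_univ, true_and, S, Set.mem_toFinset,
      ConjClasses.mk_eq_mk_iff_isConj]
    exact and_congr_right fun _ => isConj_comm
  have h2 := Finset.card_le_card himg
  rw [Finset.card_erase_of_mem (Finset.mem_univ _), Finset.card_univ, ← Nat.card_eq_fintype_card] at h2
  rw [show Nat.card T = S.card by rw [Nat.card_eq_fintype_card, ← Set.toFinset_card]]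
  have hpos : 0 < Nat.card (ConjClasses G) := Nat.card_pos
  calc S.card + n ≤ n * (S.image ConjClasses.mk).card + n := Nat.add_le_add_right hc n
    _ ≤ n * (Nat.card (ConjClasses G) - 1) + n := Nat.add_le_add_right (Nat.mul_le_mul_left n h2) n
    _ = n * Nat.card (ConjClasses G) := by rw [Nat.mul_sub_one, Nat.sub_add_cancel (Nat.le_mul_of_pos_right n hpos)]

/-- An abelian subgroup of index `i` gives at least `|A| / i` classes. -/
theorem classes_ge_index (A : Subgroup G) (hA : ∀ x ∈ A, ∀ y ∈ A, Commute x y) :
    Nat.card A ≤ Nat.card (ConjClasses G) * A.index := by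
  letI := Fintype.ofFinite A
  letI := Fintype.ofFinite (ConjClasses G)
  letI := Fintype.ofFinite (G ⧸ A)
  rw [Subgroup.index_eq_card, Nat.card_eq_fintype_card, Nat.card_eq_fintype_card, Nat.card_eq_fintype_card,
    ← Finset.card_univ (α := A), ← Finset.card_univ (α := ConjClasses G), mul_comm]
  refine Finset.card_le_mul_card_image_of_maps_to (f := fun x : A => ConjClasses.mk (x : G))
    (fun _ _ => Finset.mem_univ _) _ fun c _ => ?_
  rcases (Finset.univ.filter fun x : A => ConjClasses.mk (x : G) = c).eq_empty_or_nonempty with h0 | ⟨x0, hx0⟩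
  · rw [h0]; simp
  rw [Finset.mem_filter] at hx0
  have hex : ∀ x ∈ Finset.univ.filter (fun x : A => ConjClasses.mk (x : G) = c), ∃ g : G, g * (x0 : G) * g⁻¹ = x := by
    intro x hx
    rw [Finset.mem_filter] at hx
    exact isConj_iff.1 (ConjClasses.mk_eq_mk_iff_isConj.1 (hx0.2.trans hx.2.symm))
  choose! g hg using hex
  refine (Finset.card_le_card_of_injOn (fun x => (g x : G ⧸ A)) (fun _ _ => Finset.mem_univ _) ?_).trans
    Finset.card_univ.le
  intro x hx y hy e
  have hn : (g x)⁻¹ * g y ∈ A := QuotientGroup.eq.1 e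
  refine Subtype.ext ?_
  rw [← hg x hx, ← hg y hy]
  have h1 : (g x)⁻¹ * g y * (x0 : G) = (x0 : G) * ((g x)⁻¹ * g y) := (hA _ hn _ x0.2).eq
  calc g x * (x0 : G) * (g x)⁻¹ = g x * ((x0 : G) * ((g x)⁻¹ * g y)) * (g y)⁻¹ := by group
    _ = g y * (x0 : G) * (g y)⁻¹ := by rw [← h1]; group

end Cfsg.Agent.Char.TransClass
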