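import Cfsg.Agent.Lib.Char.TransClasses.Top

/-!
# Classes of `p`-regular elements above the classes of a `p'`-quotient
-/

set_option autoImplicit false
set_option linter.unusedSectionVars false
set_option linter.style.haveILetI false

namespace Cfsg.Agent.Char.TransClass

variable {p : ℕ} [Fact p.Prime] {G Y : Type*} [Group G] [Finite G] [Group Y] [Finite Y]

/-- The number of classes of `p`-regular elements. -/
noncomputable def regNum (p : ℕ) (X : Type*) [Group X] : ℕ :=
  Nat.card {c : ConjClasses X // ∃ g : X, ConjClasses.mk g = c ∧ ¬ p ∣ orderOf g}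

theorem not_dvd_orderOf_of_coprime (hY : ¬ p ∣ Nat.card Y) (y : Y) : ¬ p ∣ orderOf y :=
  fun h => hY (h.trans (orderOf_dvd_natCard y))

/-- A section of the class map, extra elements outside it. -/
theorem count_core (f : G →* Y) (s : ConjClasses Y → G) (hs : ∀ c, ¬ p ∣ orderOf (s c) ∧ ConjClasses.mk (f (s c)) = c)
    {n : ℕ} (e : Fin n → G) (he : ∀ i, ¬ p ∣ orderOf (e i)) (hne : ∀ i j, IsConj (e i) (e j) → i = j)
    (hout : ∀ i c, ¬ IsConj (s c) (e i)) : Nat.card (ConjClasses Y) + n ≤ regNum p G := by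
  rw [← Nat.card_fin n, ← Nat.card_sum, regNum]
  refine Nat.card_le_card_of_injective (fun z => Sum.elim (fun c => ⟨ConjClasses.mk (s c), s c, rfl, (hs c).1⟩)
    (fun i => ⟨ConjClasses.mk (e i), e i, rfl, he i⟩) z) ?_
  rintro (c | i) (d | j) h <;> simp only [Sum.elim_inl, Sum.elim_inr, Subtype.mk.injEq] at h
  · rw [← (hs c).2, ← (hs d).2]
    exact congrArg Sum.inl (ConjClasses.mk_eq_mk_iff_isConj.2 (f.map_isConj (ConjClasses.mk_eq_mk_iff_isConj.1 h)))
  · exact absurd (ConjClasses.mk_eq_mk_iff_isConj.1 h) (hout j c)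
  · exact absurd (ConjClasses.mk_eq_mk_iff_isConj.1 h).symm (hout i d)
  · exact congrArg Sum.inr (hne i j (ConjClasses.mk_eq_mk_iff_isConj.1 h))

theorem exists_section (f : G →* Y) (hf : Function.Surjective f) (hY : ¬ p ∣ Nat.card Y) (g₀ : G)
    (hg₀ : ¬ p ∣ orderOf g₀) :
    ∃ s : ConjClasses Y → G, (∀ c, ¬ p ∣ orderOf (s c) ∧ ConjClasses.mk (f (s c)) = c) ∧
      s (ConjClasses.mk (f g₀)) = g₀ ∧ (f g₀ ≠ 1 → s (ConjClasses.mk 1) = 1) := by
  classical
  have hlift : ∀ c : ConjClasses Y, ∃ g : G, ¬ p ∣ orderOf g ∧ ConjClasses.mk (f g) = c := by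
    intro c
    obtain ⟨y, rfl⟩ := Quotient.exists_rep c
    obtain ⟨g, rfl⟩ := hf y
    obtain ⟨i, hi, e⟩ := (exists_pow_lift f g Fact.out).1 (not_dvd_orderOf_of_coprime hY _)
    exact ⟨g ^ i, hi, by rw [e]; rfl⟩
  choose s hs using hlift
  refine ⟨fun c => if c = ConjClasses.mk (f g₀) then g₀ else if c = ConjClasses.mk 1 then 1 else s c,
    fun c => ?_, by simp, fun h => ?_⟩
  · dsimp only
    split_ifs with h1 h2
    · exact ⟨hg₀, h1.symm⟩
    · exact ⟨by rw [orderOf_one]; exact (Fact.out : p.Prime).not_dvd_one, by rw [map_one, h2]⟩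
    · exact hs c
  · dsimp only
    rw [if_neg (fun e => h ?_), if_pos rfl]
    rwa [eq_comm, ConjClasses.mk_eq_mk_iff_isConj, isConj_one_left] at e

theorem one_regular : ¬ p ∣ orderOf (1 : G) := by rw [orderOf_one]; exact (Fact.out : p.Prime).not_dvd_one

theorem count_ge (f : G →* Y) (hf : Function.Surjective f) (hY : ¬ p ∣ Nat.card Y) :
    Nat.card (ConjClasses Y) ≤ regNum p G := by
  obtain ⟨s, hs, -, -⟩ := exists_section f hf hY 1 one_regular
  simpa using count_core f s hs (n := 0) Fin.elim0 (fun i => i.elim0) (fun i => i.elim0) (fun i => i.elim0)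

/-- A nontrivial regular element of the kernel gives one more class. -/
theorem count_ge_one (f : G →* Y) (hf : Function.Surjective f) (hY : ¬ p ∣ Nat.card Y) {y : G} (hy : y ≠ 1)
    (hyr : ¬ p ∣ orderOf y) (hfy : f y = 1) : Nat.card (ConjClasses Y) + 1 ≤ regNum p G := by
  obtain ⟨s, hs, h1, -⟩ := exists_section f hf hY 1 one_regular
  rw [map_one] at h1
  refine count_core f s hs (fun _ => y) (fun _ => hyr) (fun i j _ => Subsingleton.elim i j) fun _ c h => ?_
  have hc : c = ConjClasses.mk 1 := by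
    rw [← (hs c).2, ← hfy]
    exact ConjClasses.mk_eq_mk_iff_isConj.2 (f.map_isConj h)
  rw [hc, h1, isConj_one_right] at h
  exact hy h

/-- Two regular elements in the kernel. -/
theorem count_ge_kernel (f : G →* Y) (hf : Function.Surjective f) (hY : ¬ p ∣ Nat.card Y) {y z : G} (hy : y ≠ 1)
    (hz : z ≠ 1) (hyr : ¬ p ∣ orderOf y) (hzr : ¬ p ∣ orderOf z) (hfy : f y = 1) (hfz : f z = 1)
    (hyz : ¬ IsConj y z) : Nat.card (ConjClasses Y) + 2 ≤ regNum p G := by
  obtain ⟨s, hs, h1, -⟩ := exists_section f hf hY 1 one_regular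
  rw [map_one] at h1
  refine count_core f s hs ![y, z] (fun i => by fin_cases i <;> assumption) (fun i j h => ?_) fun i c h => ?_
  · fin_cases i <;> fin_cases j <;> first
      | rfl
      | exact absurd h hyz
      | exact absurd h.symm hyz
  · have hc : c = ConjClasses.mk 1 := by
      rw [← (hs c).2, ← map_one f]
      refine ConjClasses.mk_eq_mk_iff_isConj.2 ((f.map_isConj h).trans ?_)
      fin_cases i <;> simp [hfy, hfz]
    rw [hc, h1, isConj_one_right] at h
    fin_cases i <;> simp_all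

/-- A regular element of the kernel and a split fibre. -/
theorem count_ge_fibre (f : G →* Y) (hf : Function.Surjective f) (hY : ¬ p ∣ Nat.card Y) {y g g' : G} (hy : y ≠ 1)
    (hyr : ¬ p ∣ orderOf y) (hfy : f y = 1) (hgr : ¬ p ∣ orderOf g) (hgr' : ¬ p ∣ orderOf g') (hg : f g ≠ 1)
    (hgg : IsConj (f g) (f g')) (hne : ¬ IsConj g g') : Nat.card (ConjClasses Y) + 2 ≤ regNum p G := by
  obtain ⟨s, hs, hsg, h1⟩ := exists_section f hf hY g hgr
  refine count_core f s hs ![y, g'] (fun i => by fin_cases i <;> assumption) (fun i j h => ?_) fun i c h => ?_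
  · have hyg : ¬ IsConj y g' := fun h => by
      have h2 := hgg.trans (f.map_isConj h).symm
      rw [hfy, isConj_one_left] at h2
      exact hg h2
    fin_cases i <;> fin_cases j <;> first
      | rfl
      | exact absurd h hyg
      | exact absurd h.symm hyg
  · fin_cases i
    · simp only [Matrix.cons_val_zero, Fin.zero_eta] at h
      have hc : c = ConjClasses.mk 1 := by
        rw [← (hs c).2, ← hfy]
        exact ConjClasses.mk_eq_mk_iff_isConj.2 (f.map_isConj h)
      rw [hc, h1 hg, isConj_one_right] at h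
      exact hy h
    · simp only [Fin.mk_one, Matrix.cons_val_one, Matrix.cons_val_fin_one] at h
      have hc : c = ConjClasses.mk (f g) := by
        rw [← (hs c).2]
        exact ConjClasses.mk_eq_mk_iff_isConj.2 ((f.map_isConj h).trans hgg.symm)
      rw [hc, hsg] at h
      exact hne h

/-- Regular fibres: the counts agree. -/
theorem count_eq (f : G →* Y) (hf : Function.Surjective f) (hY : ¬ p ∣ Nat.card Y)
    (h : ∀ g g' : G, ¬ p ∣ orderOf g → ¬ p ∣ orderOf g' → IsConj (f g) (f g') → IsConj g g') :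
    regNum p G = Nat.card (ConjClasses Y) := by
  refine le_antisymm ?_ (count_ge f hf hY)
  choose r hr using fun c : {c : ConjClasses G // ∃ g : G, ConjClasses.mk g = c ∧ ¬ p ∣ orderOf g} => c.2
  refine Nat.card_le_card_of_injective (fun c => ConjClasses.mk (f (r c))) fun c d e => Subtype.ext ?_
  rw [← (hr c).1, ← (hr d).1]
  exact ConjClasses.mk_eq_mk_iff_isConj.2 (h _ _ (hr c).2 (hr d).2 (ConjClasses.mk_eq_mk_iff_isConj.1 e))

end Cfsg.Agent.Char.TransClass
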