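import Cfsg.Agent.Lib.Char.TransClasses.Count
import Cfsg.Agent.Lib.Recognition.MclThreeLocal.Sl25

/-!
# The exception `SL(2, 5)` above a nontrivial `p'`-core: two further classes
-/

set_option autoImplicit false
set_option linter.unusedSectionVars false
set_option linter.style.haveILetI false
set_option maxRecDepth 100000
set_option synthInstance.maxSize 2000

namespace Cfsg.Agent.Char.TransClass

open MclThree

theorem m4_four : ∀ x : M4, det4 x → m4 x x = (4, 0, 0, 4) → ∀ c : M4, det4 c → m4 x c = m4 c x →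
    c = (1, 0, 0, 1) ∨ c = x ∨ c = (4, 0, 0, 4) ∨ c = m4 x (4, 0, 0, 4) := by
  decide +kernel

/-- Powers of a quadruple. -/
def m4p (x : M4) : ℕ → M4
  | 0 => (1, 0, 0, 1)
  | n + 1 => m4 (m4p x n) x

theorem m4_types : ∀ x : M4, det4 x → x ≠ (1, 0, 0, 1) →
    m4p x 1 = (4, 0, 0, 4) ∨ m4p x 2 = (4, 0, 0, 4) ∨ m4p x 3 = (4, 0, 0, 4) ∨ m4p x 5 = (4, 0, 0, 4) ∨
      ((m4p (m4 (4, 0, 0, 4) x) 4 = x ∨ m4p (m4 (4, 0, 0, 4) x) 6 = x) ∧
        ∀ c : M4, det4 c → m4 x c = m4 c x → ∃ k : Fin 10, c = m4p (m4 (4, 0, 0, 4) x) k) := by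
  decide +kernel

theorem ent_pow (g : SL5) : ∀ n, ent (g ^ n) = m4p (ent g) n
  | 0 => by rw [pow_zero, ent_one]; rfl
  | n + 1 => by rw [pow_succ, ent_mul, ent_pow g n]; rfl

theorem sl_cent_four {x c : SL5} (hx : x * x = -1) (hc : x * c = c * x) : c ∈ Subgroup.zpowers x := by
  rcases m4_four _ (ent_det x) (by rw [← ent_mul, hx, ent_neg]) _ (ent_det c) (by rw [← ent_mul, ← ent_mul, hc]) with
    e | e | e | e
  · rw [ent_inj (e.trans ent_one.symm)]; exact one_mem _
  · rw [ent_inj e]; exact Subgroup.mem_zpowers x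
  · rw [ent_inj (e.trans ent_neg.symm), ← hx]; exact mul_mem (Subgroup.mem_zpowers x) (Subgroup.mem_zpowers x)
  · rw [← ent_neg, ← ent_mul] at e
    rw [ent_inj e, ← hx]
    exact mul_mem (Subgroup.mem_zpowers x) (mul_mem (Subgroup.mem_zpowers x) (Subgroup.mem_zpowers x))

theorem sl_types {x : SL5} (hx : x ≠ 1) :
    (∃ n : ℕ, x ^ n = -1) ∨ ∃ (s : SL5) (j : ℕ), x = s ^ j ∧ ∀ c, x * c = c * x → c ∈ Subgroup.zpowers s := by
  have hp : ∀ n, m4p (ent x) n = (4, 0, 0, 4) → x ^ n = -1 := fun n h => ent_inj ((ent_pow x n).trans (h.trans ent_neg.symm))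
  rcases m4_types _ (ent_det x) (fun e => hx (ent_inj (e.trans ent_one.symm))) with h | h | h | h | ⟨h, hc⟩
  · exact Or.inl ⟨1, hp 1 h⟩
  · exact Or.inl ⟨2, hp 2 h⟩
  · exact Or.inl ⟨3, hp 3 h⟩
  · exact Or.inl ⟨5, hp 5 h⟩
  · rw [← ent_neg, ← ent_mul] at h hc
    refine Or.inr ⟨-1 * x, if m4p (ent (-1 * x)) 4 = ent x then 4 else 6, ?_, fun c hxc => ?_⟩
    · split_ifs with h4
      · exact ent_inj (h4.symm.trans (ent_pow _ 4).symm)
      · exact ent_inj ((h.resolve_left h4).symm.trans (ent_pow _ 6).symm)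
    · obtain ⟨k, hk⟩ := hc _ (ent_det c) (by rw [← ent_mul, ← ent_mul, hxc])
      rw [ent_inj (hk.trans (ent_pow _ _).symm)]
      exact Subgroup.npow_mem_zpowers _ _

theorem sl_quat : ∃ i j : SL5, i * i = -1 ∧ j * j = -1 ∧ (i * j) * (i * j) = -1 := by
  obtain ⟨i, hi⟩ := ent_surj (x := (2, 0, 0, 3)) (by decide)
  obtain ⟨j, hj⟩ := ent_surj (x := (0, 1, 4, 0)) (by decide)
  refine ⟨i, j, ?_, ?_, ?_⟩ <;> apply ent_inj <;> simp only [ent_mul, ent_neg, hi, hj] <;> decide

variable {p : ℕ} [Fact p.Prime] {G : Type*} [Group G] [Finite G] {N : Subgroup G} [N.Normal] {V H : Subgroup (G ⧸ N)}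

/-- A nontrivial core gives two more classes. -/
theorem extra_two (S : Setup p V H) (π : G ⧸ N →* H) (hπV : ∀ v ∈ V, π v = 1) (hπH : ∀ h : H, π h = h)
    (hπ : ∀ q : G ⧸ N, q * ((π q : H) : G ⧸ N)⁻¹ ∈ V) (hN : N ≠ ⊥) (hNp : (Nat.card N).Coprime p) (hp11 : p = 11)
    (e : H ≃* SL5) (hcard : Nat.card H + 1 = Nat.card V) :
    Nat.card (ConjClasses H) + 2 ≤ regNum p G := by
  classical
  by_contra hcon
  haveI := S.nrm
  have hp : p.Prime := Fact.out
  let q : G →* G ⧸ N := QuotientGroup.mk' N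
  let f : G →* H := π.comp q
  have hf : Function.Surjective f := fun h => by
    obtain ⟨g, hg⟩ := QuotientGroup.mk'_surjective N (h : G ⧸ N)
    exact ⟨g, by show π (q g) = h; rw [show q g = (h : G ⧸ N) from hg, hπH]⟩
  have hHp := S.coprime
  have hNreg : ∀ y ∈ N, ¬ p ∣ orderOf y := fun y hy h => by
    have h1 : orderOf y ∣ Nat.card N := (Subgroup.orderOf_mk y hy).symm ▸ orderOf_dvd_natCard _
    exact hp.not_dvd_one (hNp ▸ Nat.dvd_gcd (h.trans h1) dvd_rfl)
  have hfN : ∀ y ∈ N, f y = 1 := fun y hy => by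
    show π (q y) = 1
    rw [show q y = 1 from (QuotientGroup.eq_one_iff y).2 hy, map_one]
  have hker : ∀ y ∈ N, ∀ z ∈ N, y ≠ 1 → z ≠ 1 → IsConj y z := fun y hy z hz hy1 hz1 => by_contra fun h =>
    hcon (count_ge_kernel f hf hHp hy1 hz1 (hNreg y hy) (hNreg z hz) (hfN y hy) (hfN z hz) h)
  obtain ⟨y₀, hy₀, hy₀1⟩ := (Subgroup.bot_or_exists_ne_one N).resolve_left hN
  have hfib : ∀ g g' : G, ¬ p ∣ orderOf g → ¬ p ∣ orderOf g' → f g ≠ 1 → f g = f g' → IsConj g g' :=
    fun g g' hg hg' h1 h2 => by_contra fun h =>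
      hcon (count_ge_fibre f hf hHp hy₀1 (hNreg y₀ hy₀) (hfN y₀ hy₀) hg hg' h1 (h2 ▸ IsConj.refl _) h)
  -- the core is elementary abelian
  set r := (orderOf y₀).minFac with hr
  have hr_prime : r.Prime := Nat.minFac_prime fun h => hy₀1 (orderOf_eq_one_iff.1 h)
  haveI := Fact.mk hr_prime
  have hord : ∀ y ∈ N, y ≠ 1 → orderOf y = r := by
    set w := y₀ ^ (orderOf y₀ / r)
    have hw : orderOf w = r := orderOf_pow_orderOf_div (orderOf_pos y₀).ne' (Nat.minFac_dvd _)
    have hw1 : w ≠ 1 := fun h => hr_prime.one_lt.ne' (by rw [← hw, h, orderOf_one])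
    intro y hy hy1
    obtain ⟨c, hc⟩ := isConj_iff.1 (hker w (N.pow_mem hy₀ _) y hy hw1 hy1)
    rw [← hc, ← hw]
    exact MulEquiv.orderOf_eq (MulAut.conj c) w
  have hrN : IsPGroup r N := fun y => ⟨1, by
    rw [pow_one]
    by_cases h : y = 1
    · rw [h, one_pow]
    · refine Subtype.ext ?_
      rw [Subgroup.coe_pow, ← hord y y.2 (fun e => h (Subtype.ext e)), pow_orderOf_eq_one, Subgroup.coe_one]⟩
  haveI : Nontrivial N := (Subgroup.nontrivial_iff_ne_bot N).2 hN
  haveI := hrN.center_nontrivial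
  obtain ⟨c₀, hc₀⟩ := exists_ne (1 : Subgroup.center N)
  have hcomm : ∀ a b : N, a * b = b * a := fun a b => by
    by_cases ha : a = 1
    · rw [ha, one_mul, mul_one]
    obtain ⟨c, hc⟩ := isConj_iff.1 (hker _ c₀.1.2 a a.2 (fun e => hc₀ (Subtype.ext (Subtype.ext e))) (fun e => ha (Subtype.ext e)))
    have h0 := Subgroup.mem_center_iff.1 c₀.2 ⟨c⁻¹ * b * c, by simpa using ‹N.Normal›.conj_mem b b.2 c⁻¹⟩
    have h0' : c⁻¹ * b * c * ((c₀.1 : N) : G) = ((c₀.1 : N) : G) * (c⁻¹ * b * c) := congrArg Subtype.val h0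
    refine Subtype.ext ?_
    show (a : G) * b = b * a
    rw [← hc]
    calc c * ((c₀.1 : N) : G) * c⁻¹ * b = c * (((c₀.1 : N) : G) * (c⁻¹ * b * c)) * c⁻¹ := by group
      _ = c * (c⁻¹ * b * c * ((c₀.1 : N) : G)) * c⁻¹ := by rw [h0']
      _ = b * (c * ((c₀.1 : N) : G) * c⁻¹) := by group
  letI : CommGroup N := { (N.toGroup : Group N) with mul_comm := hcomm }
  let φ : G ⧸ N →* MulAut N := QuotientGroup.lift N MulAut.conjNormal fun g hg => MulEquiv.ext fun m => Subtype.ext (by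
    rw [MulAut.conjNormal_apply, MulAut.one_apply]
    have := congrArg Subtype.val (hcomm ⟨g, hg⟩ m)
    rw [Subgroup.coe_mul, Subgroup.coe_mul] at this
    rw [this, mul_inv_cancel_right])
  have hφ : ∀ (g : G) (m : N), ((φ (q g) m : N) : G) = g * m * g⁻¹ := fun g m => MulAut.conjNormal_apply g m
  -- an element with small centralizer has no fixed point
  obtain ⟨hfree, hmove⟩ := S.regular hcard
  have star : ∀ (s : H) (j : ℕ), s ^ j ≠ 1 → (∀ c : H, s ^ j * c = c * s ^ j → c ∈ Subgroup.zpowers s) →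
      ∀ n : N, φ ((s ^ j : H) : G ⧸ N) n = n → n = 1 := by
    intro s j hne hcen n hn
    obtain ⟨T, hT⟩ := QuotientGroup.mk'_surjective N (s : G ⧸ N)
    set y := T ^ j with hy
    have hqy : q y = ((s ^ j : H) : G ⧸ N) := by rw [hy, map_pow, Subgroup.coe_pow]; exact congrArg (· ^ j) hT
    have hreg : ∀ g : G, q g = ((s ^ j : H) : G ⧸ N) → ¬ p ∣ orderOf g := by
      intro g hg hd
      have h1 : g ^ Nat.card H ∈ N := (QuotientGroup.eq_one_iff _).1 (by
        show q (g ^ Nat.card H) = 1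
        rw [map_pow, hg, ← Subgroup.coe_pow, pow_card_eq_one', Subgroup.coe_one])
      have h2 : orderOf g ∣ Nat.card H * Nat.card N := orderOf_dvd_of_pow_eq_one (by
        rw [pow_mul]
        exact congrArg Subtype.val (pow_card_eq_one' (x := (⟨_, h1⟩ : N))))
      rcases hp.dvd_mul.1 (hd.trans h2) with h | h
      · exact hHp h
      · exact hp.not_dvd_one (hNp ▸ Nat.dvd_gcd h dvd_rfl)
    let d : N → N := fun m => (φ (q y⁻¹) m) * m⁻¹
    have hd : Function.Surjective d := by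
      intro n'
      have hq' : q (y * n') = q y := by rw [map_mul, show q n' = 1 from (QuotientGroup.eq_one_iff _).2 n'.2, mul_one]
      obtain ⟨g, hg⟩ := isConj_iff.1 (hfib y (y * n') (hreg y hqy) (hreg _ (hq'.trans hqy))
        (by show π (q y) ≠ 1; rw [hqy, hπH]; exact hne) (congrArg π hq'.symm))
      have hqg : q g * ((s ^ j : H) : G ⧸ N) = ((s ^ j : H) : G ⧸ N) * q g := by
        have := congrArg q hg
        rw [map_mul, map_mul, map_inv, hq', hqy, mul_inv_eq_iff_eq_mul] at this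
        exact this
      have hcπ : s ^ j * π (q g) = π (q g) * s ^ j := by
        have := congrArg π hqg
        rw [map_mul, map_mul, hπH] at this
        exact this.symm
      have hv : q g * ((π (q g) : H) : G ⧸ N)⁻¹ = 1 := by
        refine hfree _ (s ^ j : H).2 (fun h => hne (Subtype.ext h)) _ (hπ _) ?_
        have h2 : ((s ^ j : H) : G ⧸ N) * ((π (q g) : H) : G ⧸ N)⁻¹ = ((π (q g) : H) : G ⧸ N)⁻¹ * ((s ^ j : H) : G ⧸ N) := by
          have := congrArg Subtype.val hcπ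
          rw [Subgroup.coe_mul, Subgroup.coe_mul] at this
          rw [eq_inv_mul_iff_mul_eq, ← mul_assoc, ← this, mul_inv_cancel_right]
        rw [mul_assoc, ← h2, ← mul_assoc, hqg, mul_assoc]
      obtain ⟨i, hi⟩ := Subgroup.mem_zpowers_iff.1 (hcen _ hcπ)
      have hm : g * (T ^ i)⁻¹ ∈ N := (QuotientGroup.eq_one_iff _).1 (by
        show q (g * (T ^ i)⁻¹) = 1
        rw [map_mul, map_inv, map_zpow, show q T = (s : G ⧸ N) from hT, ← Subgroup.coe_zpow, hi, hv])
      refine ⟨⟨_, hm⟩, Subtype.ext ?_⟩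
      show ((φ (q y⁻¹) ⟨_, hm⟩ : N) : G) * (g * (T ^ i)⁻¹)⁻¹ = n'
      rw [hφ, inv_inv]
      have hTy : T ^ i * y * (T ^ i)⁻¹ = y := by rw [hy, ← zpow_natCast, ← zpow_add, ← zpow_neg, ← zpow_add]; congr 1; omega
      calc y⁻¹ * (g * (T ^ i)⁻¹) * y * (g * (T ^ i)⁻¹)⁻¹
          = y⁻¹ * (g * ((T ^ i)⁻¹ * y * T ^ i) * g⁻¹) := by group
        _ = y⁻¹ * (g * ((T ^ i)⁻¹ * (T ^ i * y * (T ^ i)⁻¹) * T ^ i) * g⁻¹) := by rw [hTy]
        _ = y⁻¹ * (g * y * g⁻¹) := by group
        _ = n' := by rw [hg, inv_mul_cancel_left]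
    have hdi : Function.Injective d := Finite.injective_iff_surjective.2 hd
    refine hdi ?_
    show φ (q y⁻¹) n * n⁻¹ = φ (q y⁻¹) 1 * 1⁻¹
    rw [map_one, inv_one, mul_one, mul_inv_eq_one, map_inv, hqy, map_inv]
    conv_lhs => rw [← hn]
    exact MulEquiv.symm_apply_apply _ _
  set z : H := e.symm (-1) with hz
  have hz1 : z ≠ 1 := fun h => sl_neg_ne (e.symm.injective (h.trans (map_one e.symm).symm))
  have hfour : ∀ i : H, i * i = z → ∀ n : N, φ (i : G ⧸ N) n = n → n = 1 := by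
    intro i hi n hn
    refine star i 1 (by rw [pow_one]; intro h; exact hz1 (by rw [← hi, h, one_mul])) (fun c hc => ?_) n (by rwa [pow_one])
    rw [pow_one] at hc
    obtain ⟨k, hk⟩ := Subgroup.mem_zpowers_iff.1 (sl_cent_four (x := e i) (c := e c)
      (by rw [← map_mul, hi, hz, MulEquiv.apply_symm_apply]) (by rw [← map_mul, hc, map_mul]))
    exact Subgroup.mem_zpowers_iff.2 ⟨k, e.injective (by rw [map_zpow, hk])⟩
  obtain ⟨i₀, j₀, hi₀, hj₀, hij₀⟩ := sl_quat
  have sq : ∀ x : SL5, x * x = -1 → e.symm x * e.symm x = z := fun x h => by rw [← map_mul, h]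
  by_cases hV : ∀ v ∈ V, φ v = 1
  · -- the complement acts
    have hφπ : ∀ x : G ⧸ N, φ x = φ ((π x : H) : G ⧸ N) := fun x => by
      conv_lhs => rw [← inv_mul_cancel_right x ((π x : H) : G ⧸ N)]
      rw [map_mul, hV _ (hπ x), one_mul]
    have hzc : ∀ c : H, z * c = c * z := fun c => e.injective (by
      rw [map_mul, map_mul, hz, MulEquiv.apply_symm_apply]; exact sl_neg_comm (e c))
    have horb : ∀ a b : N, a ≠ 1 → b ≠ 1 → ∃ c : H, φ (c : G ⧸ N) a = b := by
      intro a b ha hb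
      obtain ⟨g, hg⟩ := isConj_iff.1 (hker a a.2 b b.2 (fun h => ha (Subtype.ext h)) (fun h => hb (Subtype.ext h)))
      refine ⟨π (q g), ?_⟩
      rw [← hφπ]
      exact Subtype.ext ((hφ g a).trans hg)
    have hzfree : ∀ n : N, φ (z : G ⧸ N) n = n → n = 1 := by
      intro n hn
      by_contra hn1
      have hzone : ∀ m : N, φ (z : G ⧸ N) m = m := fun m => by
        by_cases hm : m = 1
        · rw [hm, map_one]
        obtain ⟨c, rfl⟩ := horb n m hn1 hm
        rw [← MulAut.mul_apply, ← map_mul, ← Subgroup.coe_mul, hzc, Subgroup.coe_mul, map_mul, MulAut.mul_apply, hn]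
      have hinv : ∀ i : H, i * i = z → ∀ m : N, φ (i : G ⧸ N) m = m⁻¹ := fun i hi m => by
        refine eq_inv_of_mul_eq_one_right (hfour i hi (m * φ (i : G ⧸ N) m) ?_)
        rw [map_mul, ← MulAut.mul_apply, ← map_mul, ← Subgroup.coe_mul, hi, hzone]
        exact hcomm _ _
      refine hn1 (hfour _ (sq _ hij₀) n ?_)
      rw [map_mul, Subgroup.coe_mul, map_mul, MulAut.mul_apply, hinv _ (sq _ hj₀), map_inv, hinv _ (sq _ hi₀), inv_inv]
    have hall : ∀ x : H, x ≠ 1 → ∀ n : N, φ (x : G ⧸ N) n = n → n = 1 := by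
      intro x hx n hn
      rcases sl_types (x := e x) (fun h => hx (e.injective (h.trans (map_one e).symm))) with ⟨k, hk⟩ | ⟨s, j, hs, hc⟩
      · refine hzfree n ?_
        have hxz : x ^ k = z := e.injective (by rw [map_pow, hk, hz, MulEquiv.apply_symm_apply])
        rw [← hxz]
        clear hxz hk
        induction k with
        | zero => rw [pow_zero, Subgroup.coe_one, map_one, MulAut.one_apply]
        | succ k ih => rw [pow_succ, Subgroup.coe_mul, map_mul, MulAut.mul_apply, hn, ih]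
      · have hxs : e.symm s ^ j = x := by rw [← map_pow, ← hs, MulEquiv.symm_apply_apply]
        refine star (e.symm s) j (hxs.symm ▸ hx) (fun c hc' => ?_) n (by rw [hxs]; exact hn)
        rw [hxs] at hc'
        obtain ⟨k, hk⟩ := Subgroup.mem_zpowers_iff.1 (hc (e c) (by rw [← map_mul, hc', map_mul]))
        exact Subgroup.mem_zpowers_iff.2 ⟨k, e.injective (by rw [map_zpow, MulEquiv.apply_symm_apply, hk])⟩
    have hy₀' : (⟨y₀, hy₀⟩ : N) ≠ 1 := fun h => hy₀1 (congrArg Subtype.val h)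
    let o : H → {m : N // m ≠ 1} := fun c => ⟨φ (c : G ⧸ N) ⟨y₀, hy₀⟩, fun h => hy₀' ((φ _).map_eq_one_iff.1 h)⟩
    have ho : Function.Bijective o := by
      refine ⟨fun a b hab => ?_, fun m => ?_⟩
      · by_contra hne
        refine hy₀' (hall (b⁻¹ * a) (fun h => hne (inv_mul_eq_one.1 h).symm) _ ?_)
        have hab' : φ (a : G ⧸ N) ⟨y₀, hy₀⟩ = φ (b : G ⧸ N) ⟨y₀, hy₀⟩ := congrArg Subtype.val hab
        rw [Subgroup.coe_mul, map_mul, MulAut.mul_apply, hab', Subgroup.coe_inv, map_inv]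
        exact MulEquiv.symm_apply_apply _ _
      · obtain ⟨c, hc⟩ := horb _ m.1 hy₀' m.2
        exact ⟨c, Subtype.ext hc⟩
    have h120 : Nat.card H = 120 := (Nat.card_congr e.toEquiv).trans sl_card
    haveI := Fintype.ofFinite N
    have hcN : Nat.card N = 121 := by
      have h := Nat.card_eq_of_bijective o ho
      rw [h120, Nat.card_eq_fintype_card (α := {m : N // m ≠ 1}), Fintype.card_subtype_compl, Fintype.card_subtype_eq,
        ← Nat.card_eq_fintype_card] at h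
      have := Nat.card_pos (α := N)
      omega
    rw [hcN, hp11] at hNp
    norm_num at hNp
  · -- the kernel moves the core: a fixed point
    refine hV fun v hv => MulEquiv.ext fun n => ?_
    haveI := Fintype.ofFinite V
    set i : H := e.symm i₀
    have hii := sq _ hi₀
    set o := orderOf i
    have ho2 : 0 < o := orderOf_pos i
    have hP : ∀ w : V, ∏ k ∈ Finset.range o, φ ((w : G ⧸ N) * ((i ^ k : H) : G ⧸ N) * (w : G ⧸ N)⁻¹) n = 1 := by
      intro w
      have h1 : ∏ k ∈ Finset.range o, φ ((i ^ k : H) : G ⧸ N) (φ (w : G ⧸ N)⁻¹ n) = 1 := by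
        refine hfour i hii _ ?_
        rw [map_prod]
        have hstep : ∀ k, φ (i : G ⧸ N) (φ ((i ^ k : H) : G ⧸ N) (φ (w : G ⧸ N)⁻¹ n)) =
            φ ((i ^ (k + 1) : H) : G ⧸ N) (φ (w : G ⧸ N)⁻¹ n) := fun k => by
          rw [pow_succ', Subgroup.coe_mul, map_mul φ, MulAut.mul_apply]
        simp only [hstep]
        let F : ℕ → N := fun k => φ ((i ^ k : H) : G ⧸ N) (φ (w : G ⧸ N)⁻¹ n)
        have hF : F o = F 0 := by simp only [F, o, pow_orderOf_eq_one, pow_zero]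
        show ∏ k ∈ Finset.range o, F (k + 1) = ∏ k ∈ Finset.range o, F k
        apply mul_right_cancel (b := F 0)
        rw [← Finset.prod_range_succ', Finset.prod_range_succ, hF]
      have h2 := congrArg (φ (w : G ⧸ N)) h1
      rw [map_one, map_prod] at h2
      rw [← h2]
      refine Finset.prod_congr rfl fun k _ => ?_
      rw [map_mul φ, map_mul φ, MulAut.mul_apply, MulAut.mul_apply]
    have htot : ∏ k ∈ Finset.range o, ∏ w : V, φ ((w : G ⧸ N) * ((i ^ k : H) : G ⧸ N) * (w : G ⧸ N)⁻¹) n = 1 := by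
      rw [Finset.prod_comm]
      exact Finset.prod_eq_one fun w _ => hP w
    have hfix : ∀ k ∈ (Finset.range o).erase 0,
        φ v (∏ w : V, φ ((w : G ⧸ N) * ((i ^ k : H) : G ⧸ N) * (w : G ⧸ N)⁻¹) n) =
          ∏ w : V, φ ((w : G ⧸ N) * ((i ^ k : H) : G ⧸ N) * (w : G ⧸ N)⁻¹) n := by
      intro k hk
      rw [Finset.mem_erase, Finset.mem_range] at hk
      have hne : i ^ k ≠ 1 := fun h => hk.1 (Nat.eq_zero_of_dvd_of_lt (orderOf_dvd_of_pow_eq_one h) hk.2)
      set h := ((i ^ k : H) : G ⧸ N)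
      let d : V → V := fun w => ⟨(w : G ⧸ N) * (h * (w : G ⧸ N)⁻¹ * h⁻¹), V.mul_mem w.2 (S.nrm.conj_mem _ (V.inv_mem w.2) h)⟩
      have hd : Function.Bijective d := Finite.surjective_iff_bijective.1 fun u => by
        obtain ⟨w, hw, hwu⟩ := hmove h (i ^ k : H).2 (fun e => hne (Subtype.ext e)) u u.2
        refine ⟨⟨w, hw⟩, Subtype.ext ?_⟩
        show w * (h * w⁻¹ * h⁻¹) = (u : G ⧸ N)
        rw [← mul_assoc, ← mul_assoc, hwu, mul_inv_cancel_right]
      have e1 : (∏ w : V, φ ((w : G ⧸ N) * h * (w : G ⧸ N)⁻¹) n) = ∏ u : V, φ (u : G ⧸ N) (φ h n) := by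
        rw [← Equiv.prod_comp (Equiv.ofBijective d hd) (fun u : V => φ (u : G ⧸ N) (φ h n))]
        refine Finset.prod_congr rfl fun w _ => ?_
        rw [← MulAut.mul_apply, ← map_mul]
        congr 2
        show _ = (w : G ⧸ N) * (h * (w : G ⧸ N)⁻¹ * h⁻¹) * h
        group
      rw [e1, map_prod]
      refine Fintype.prod_equiv (Equiv.mulLeft (⟨v, hv⟩ : V)) _ _ fun u => ?_
      show φ v (φ (u : G ⧸ N) _) = φ (v * u) _
      rw [map_mul, MulAut.mul_apply]
    have hcard' : φ v (n ^ Nat.card V) = n ^ Nat.card V := by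
      rw [← Finset.mul_prod_erase (Finset.range o) _ (Finset.mem_range.2 ho2)] at htot
      have h0 : (∏ w : V, φ ((w : G ⧸ N) * ((i ^ 0 : H) : G ⧸ N) * (w : G ⧸ N)⁻¹) n) = n ^ Nat.card V := by
        rw [Nat.card_eq_fintype_card, ← Finset.card_univ, ← Finset.prod_const]
        refine Finset.prod_congr rfl fun w _ => ?_
        rw [pow_zero, Subgroup.coe_one, mul_one, mul_inv_cancel, map_one, MulAut.one_apply]
      rw [h0, mul_eq_one_iff_eq_inv] at htot
      rw [htot, map_inv, map_prod, Finset.prod_congr rfl hfix]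
    rw [map_pow] at hcard'
    show φ v n = n
    obtain ⟨a, -, hVa, -⟩ := S.linear
    refine (powCoprime (G := N) (n := Nat.card V) ?_).injective hcard'
    rw [hVa]
    exact hNp.pow_right a

end Cfsg.Agent.Char.TransClass
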