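import Cfsg.Agent.Lib.Char.KThree.Linear
import Cfsg.Agent.Lib.Lie.OddSmall.Density
import Cfsg.Agent.Lib.Classical.LinThree.HessLift

/-!
# A transitive linear group of order prime to the characteristic has a faithful complex representation

Over the field of its endomorphisms it is absolutely irreducible, and such a representation lifts.
-/

set_option autoImplicit false
set_option linter.unusedSectionVars false
set_option linter.style.haveILetI false

namespace Cfsg.Agent.Char.TransClass

open KThree Module

variable {p a : ℕ} [Fact p.Prime] {E : Type*} [Group E] [Finite E] (ρ : E →* GL (Fin a) (ZMod p))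

/-- Lift of a faithful absolutely irreducible representation of a `p'`-group. -/
theorem exists_complex_of_span {G : Type*} [Group G] [Finite G] {r m : ℕ} (hr : r.Prime) (hm : 0 < m)
    (hG : ¬ r ∣ Nat.card G) {K : Type*} [Field K] [Fintype K] [CharP K r]
    (σ : G →* Matrix (Fin m) (Fin m) K) (hinj : Function.Injective σ)
    (hspan : Submodule.span K (Set.range σ) = ⊤) :
    ∃ τ : Representation ℂ G (Fin m → ℂ), Function.Injective τ := by
  obtain ⟨V, f, R, U, U', hUU', hU'U, hred, -, -⟩ := Classical.LinThree.Hess.exists_lift hr hm hG σ hspan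
  let τ : Representation ℂ G (Fin m → ℂ) :=
    (Matrix.toLinAlgEquiv' : Matrix (Fin m) (Fin m) ℂ ≃ₐ[ℂ] _).toMonoidHom.comp
      ((V.subtype.mapMatrix : Matrix (Fin m) (Fin m) V →+* _).toMonoidHom.comp R)
  refine ⟨τ, fun x y h => hinj ?_⟩
  have h1 : R x = R y := Matrix.map_injective V.subtype_injective (Matrix.toLinAlgEquiv'.injective h)
  have h2 := congrArg (fun X => U' * X.map (IsLocalRing.residue V) * U) h1
  simp only [hred, Matrix.mul_assoc, hU'U, Matrix.mul_one] at h2
  simp only [← Matrix.mul_assoc, hU'U, Matrix.one_mul] at h2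
  exact Matrix.map_injective f.injective h2

/-- The lift over a field of endomorphisms. -/
theorem exists_rep_of_field {V : Type*} [AddCommGroup V] [Finite V] [Nontrivial V] [Module (ZMod p) V] {K : Type*}
    [Field K] [Fintype K] [CharP K p] [Algebra (ZMod p) K] [Module K V] [IsScalarTower (ZMod p) K V]
    (L : E →* Module.End K V) (hL : Function.Injective L) (hcop : ¬ p ∣ Nat.card E)
    (htr : ∀ v w : V, v ≠ 0 → w ≠ 0 → ∃ g : E, L g v = w)
    (hcent : ∀ F : V →ₗ[ZMod p] V, (∀ g x, F (L g x) = L g (F x)) → ∃ c : K, ∀ x, F x = c • x) :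
    ∃ m : ℕ, 0 < m ∧ m ≤ Module.finrank (ZMod p) V ∧
      ∃ τ : Representation ℂ E (Fin m → ℂ), Function.Injective τ := by
  classical
  haveI : Module.Finite (ZMod p) K := Module.Finite.of_finite
  haveI : Module.Finite K V := Module.Finite.of_finite
  set m := Module.finrank K V with hm
  have hm0 : 0 < m := Module.finrank_pos
  have hma : m ≤ Module.finrank (ZMod p) V := by
    rw [← Module.finrank_mul_finrank (ZMod p) K V, ← hm]
    exact Nat.le_mul_of_pos_left m Module.finrank_pos
  let b := Module.finBasis K V
  let σ : E →* Matrix (Fin m) (Fin m) K := (LinearMap.toMatrixAlgEquiv b).toMonoidHom.comp L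
  have hσ : Function.Injective σ := fun c d h => hL ((LinearMap.toMatrixAlgEquiv b).injective h)
  have hmv : ∀ (g : E) (z : V), b.equivFun (L g z) = (σ g).mulVec (b.equivFun z) := fun g z =>
    (LinearMap.toMatrix_mulVec_repr b b (L g) z).symm
  have hspan : Submodule.span K (Set.range σ) = ⊤ := by
    refine Lie.OddSmall.span_eq_top σ (fun x y hx hy => ?_) (fun f hf => ?_)
    · obtain ⟨g, hg⟩ := htr (b.equivFun.symm x) (b.equivFun.symm y)
        (fun h => hx (b.equivFun.symm.map_eq_zero_iff.mp h)) (fun h => hy (b.equivFun.symm.map_eq_zero_iff.mp h))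
      refine ⟨g, ?_⟩
      have := hmv g (b.equivFun.symm x)
      rw [hg, LinearEquiv.apply_symm_apply, LinearEquiv.apply_symm_apply] at this
      exact this.symm
    · let F : V →ₗ[K] V := b.equivFun.symm.toLinearMap ∘ₗ f ∘ₗ b.equivFun.toLinearMap
      have hFd : ∀ (g : E) (x : V), F (L g x) = L g (F x) := by
        intro g x
        apply b.equivFun.injective
        simp only [F, LinearMap.comp_apply, LinearEquiv.coe_coe, LinearEquiv.apply_symm_apply, hmv, hf]
      obtain ⟨c, hc⟩ := hcent (F.restrictScalars (ZMod p)) hFd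
      refine ⟨c, fun z => ?_⟩
      apply b.equivFun.symm.injective
      rw [map_smul]
      refine Eq.trans ?_ (hc (b.equivFun.symm z))
      simp only [F, LinearMap.restrictScalars_apply, LinearMap.comp_apply, LinearEquiv.coe_coe, LinearEquiv.apply_symm_apply]
  exact ⟨m, hm0, hma, exists_complex_of_span Fact.out hm0 hcop σ hσ hspan⟩

set_option synthInstance.maxHeartbeats 200000 in
set_option maxHeartbeats 1000000 in
/-- Transitive on the nonzero vectors and of order prime to `p`: a faithful complex representation of degree at most `a`. -/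
theorem exists_rep (hρ : Function.Injective ρ) (ha : 0 < a) (hcop : ¬ p ∣ Nat.card E)
    (htr : ∀ v w : Fin a → ZMod p, v ≠ 0 → w ≠ 0 → ∃ g : E, act ρ g v = w) :
    ∃ m : ℕ, 0 < m ∧ m ≤ a ∧ ∃ τ : Representation ℂ E (Fin m → ℂ), Function.Injective τ := by
  classical
  haveI : Nonempty (Fin a) := ⟨⟨0, ha⟩⟩
  let S : Subalgebra (ZMod p) (Module.End (ZMod p) (Fin a → ZMod p)) :=
    Subalgebra.centralizer (ZMod p) (Set.range (act ρ))
  have hcomm : ∀ (f : S) (g : E) (x : Fin a → ZMod p),
      (f : Module.End (ZMod p) (Fin a → ZMod p)) (act ρ g x) = act ρ g ((f : Module.End (ZMod p) (Fin a → ZMod p)) x) :=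
    fun f g x => (LinearMap.congr_fun ((Subalgebra.mem_centralizer_iff _).1 f.2 (act ρ g) ⟨g, rfl⟩) x).symm
  have hinj : ∀ f : S, f ≠ 0 → Function.Injective (f : Module.End (ZMod p) (Fin a → ZMod p)) := by
    intro f hf
    refine (injective_iff_map_eq_zero _).2 fun v hv => by_contra fun hv0 => hf (Subtype.ext (LinearMap.ext fun w => ?_))
    rcases eq_or_ne w 0 with rfl | hw
    · simp
    · obtain ⟨g, rfl⟩ := htr v w hv0 hw
      rw [hcomm, hv, map_zero]
      rfl
  haveI : Nontrivial S := ⟨⟨0, 1, fun h => by
    obtain ⟨v, hv⟩ := exists_ne (0 : Fin a → ZMod p)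
    exact hv (LinearMap.congr_fun (congrArg Subtype.val h) v).symm⟩⟩
  haveI : NoZeroDivisors S := ⟨fun {f g} h => by
    by_cases hf : f = 0
    · exact Or.inl hf
    refine Or.inr (Subtype.ext (LinearMap.ext fun u => hinj f hf ?_))
    exact (LinearMap.congr_fun (congrArg Subtype.val h) u).trans (map_zero _).symm⟩
  haveI : IsDomain S := NoZeroDivisors.to_isDomain S
  haveI : Finite (Module.End (ZMod p) (Fin a → ZMod p)) :=
    Finite.of_injective (fun f : Module.End (ZMod p) (Fin a → ZMod p) => (f : (Fin a → ZMod p) → (Fin a → ZMod p)))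
      DFunLike.coe_injective
  letI : Field S := (Finite.isDomain_to_isField S).toField
  letI : Fintype S := Fintype.ofFinite S
  haveI : CharP S p := charP_of_injective_algebraMap (FaithfulSMul.algebraMap_injective (ZMod p) S) p
  letI : Module S (Fin a → ZMod p) :=
    { smul := fun f x => (f : Module.End (ZMod p) (Fin a → ZMod p)) x
      one_smul := fun _ => rfl
      mul_smul := fun _ _ _ => rfl
      smul_zero := fun f => map_zero (f : Module.End (ZMod p) (Fin a → ZMod p))
      smul_add := fun f => map_add (f : Module.End (ZMod p) (Fin a → ZMod p))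
      add_smul := fun _ _ _ => rfl
      zero_smul := fun _ => rfl }
  haveI : IsScalarTower (ZMod p) S (Fin a → ZMod p) := ⟨fun _ _ _ => rfl⟩
  let L : E →* Module.End S (Fin a → ZMod p) :=
    { toFun := fun g =>
        { toFun := fun x => act ρ g x
          map_add' := map_add (act ρ g)
          map_smul' := fun f x => (hcomm f g x).symm }
      map_one' := LinearMap.ext fun x => by simp [act_one]
      map_mul' := fun c d => LinearMap.ext fun x => by simp [act_mul] }
  have hL : Function.Injective L := fun c d h => act_inj ρ hρ (LinearMap.ext fun x => LinearMap.congr_fun h x)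
  obtain ⟨m, hm0, hma, hτ⟩ := exists_rep_of_field L hL hcop htr fun F hF =>
    ⟨⟨F, (Subalgebra.mem_centralizer_iff _).2 (by
      rintro _ ⟨g, rfl⟩
      exact LinearMap.ext fun x => (hF g x).symm)⟩, fun x => rfl⟩
  rw [Module.finrank_fin_fun] at hma
  exact ⟨m, hm0, hma, hτ⟩

end Cfsg.Agent.Char.TransClass
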