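import Cfsg.Agent.Lib.Char.TransClasses.Space
import Cfsg.Agent.Lib.Char.TransClasses.ExtraTwo
import Cfsg.Agent.Lib.Char.TransClasses.Affine
import Cfsg.Agent.Lib.Char.TwoClass.Plane

/-!
# One class of nontrivial `p`-elements: the count of `p`-regular classes
-/

set_option autoImplicit false
set_option linter.unusedSectionVars false
set_option linter.style.haveILetI false

namespace Cfsg.Agent.Char.TransClass

variable {p : ℕ} [Fact p.Prime] {G : Type*} [Group G] [Finite G]

theorem two_le_classes [Nontrivial G] : 2 ≤ Nat.card (ConjClasses G) := by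
  obtain ⟨x, hx⟩ := exists_ne (1 : G)
  haveI : Nontrivial (ConjClasses G) := ⟨⟨ConjClasses.mk x, ConjClasses.mk 1, fun e => hx (by
    rwa [ConjClasses.mk_eq_mk_iff_isConj, isConj_one_left] at e)⟩⟩
  exact Finite.one_lt_card

theorem card_le_two (h : Nat.card (ConjClasses G) ≤ 2) : Nat.card G ≤ 2 := by
  classical
  letI := Fintype.ofFinite (ConjClasses G)
  set one := ConjClasses.mk (1 : G)
  have hone : Nat.card one.carrier = 1 := by
    rw [Nat.card_coe_set_eq, Set.ncard_eq_one]
    refine ⟨1, Set.ext fun g => ?_⟩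
    rw [ConjClasses.mem_carrier_iff_mk_eq, ConjClasses.mk_eq_mk_iff_isConj, isConj_comm, isConj_one_right,
      Set.mem_singleton_iff]
  have hsum := card_eq_sum (G := G)
  rw [finsum_eq_sum_of_fintype, ← Finset.add_sum_erase _ _ (Finset.mem_univ one), hone] at hsum
  have hle : (Finset.univ.erase one).card ≤ 1 := by
    rw [Finset.card_erase_of_mem (Finset.mem_univ one), Finset.card_univ, ← Nat.card_eq_fintype_card]
    omega
  rcases (Finset.univ.erase one).eq_empty_or_nonempty with h0 | ⟨c, hc⟩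
  · rw [h0, Finset.sum_empty] at hsum
    omega
  · rw [show Finset.univ.erase one = {c} from Finset.eq_singleton_iff_unique_mem.2
      ⟨hc, fun d hd => Finset.card_le_one.1 hle d hd c hc⟩, Finset.sum_singleton] at hsum
    have hd := carrier_dvd c
    rw [hsum, Nat.dvd_add_self_right, Nat.dvd_one] at hd
    omega

/-- Dimension two. -/
theorem classes_two {E : Type*} [Group E] [Finite E] (ρ : E →* GL (Fin 2) (ZMod p)) (hρ : Function.Injective ρ)
    (hcop : ¬ p ∣ Nat.card E) (htr : ∀ v w : Fin 2 → ZMod p, v ≠ 0 → w ≠ 0 → ∃ g : E, KThree.act ρ g v = w) :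
    p ≤ Nat.card (ConjClasses E) ∨ (p = 11 ∧ Nat.card (ConjClasses E) = 9 ∧ Nat.card E = 120 ∧
      Nonempty (E ≃* Matrix.SpecialLinearGroup (Fin 2) (ZMod 5))) := by
  have hp : p.Prime := Fact.out
  have hbig := Nat.le_of_dvd Nat.card_pos (dvd_card ρ two_pos htr)
  rcases lt_or_ge p 5 with h5 | h5
  · left
    have hp2 := hp.two_le
    interval_cases p
    · haveI : Nontrivial E := Finite.one_lt_card_iff_nontrivial.1 (by omega)
      exact two_le_classes
    · by_contra h
      have := card_le_two (G := E) (by omega)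
      omega
    · exact absurd hp (by norm_num)
  let e : E ≃* ρ.range := MonoidHom.ofInjective hρ
  have hc : Nat.card E = Nat.card ρ.range := Nat.card_congr e.toEquiv
  have hk : Nat.card (ConjClasses E) = Nat.card (ConjClasses ρ.range) := by
    refine Nat.card_congr
      { toFun := ConjClasses.map e.toMonoidHom, invFun := ConjClasses.map e.symm.toMonoidHom, left_inv := ?_, right_inv := ?_ }
    · intro c
      obtain ⟨g, rfl⟩ := Quotient.exists_rep c
      exact congrArg ConjClasses.mk (e.symm_apply_apply g)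
    · intro c
      obtain ⟨g, rfl⟩ := Quotient.exists_rep c
      exact congrArg ConjClasses.mk (e.apply_symm_apply g)
  rcases TwoClass.plane_classes h5 ρ.range (hc ▸ hcop) (fun v w hv hw => by
    obtain ⟨g, hg⟩ := htr v w hv hw
    exact ⟨ρ g, ⟨g, rfl⟩, hg⟩) with h | ⟨h1, h2, h3, ⟨h4⟩⟩
  · exact Or.inl (hk ▸ h)
  · exact Or.inr ⟨h1, hk ▸ h2, hc ▸ h3, ⟨e.trans h4⟩⟩

/-- The trichotomy. -/
theorem main (hsolv : Cfsg.IsPSolvable p G) (hdiv : p ∣ Nat.card G) (hconj : OneClass p G) :
    p ≤ regNum p G ∨ (regNum p G = p - 1 ∧ Nonempty (G ≃* ↥(Cfsg.affineGroup (ZMod p)))) ∨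
      (p = 11 ∧ regNum p G = 9 ∧ Nat.card G = 121 * 120 ∧ ∃ H : Subgroup G,
        Cfsg.IsFrobeniusComplement H ∧ Nonempty (↥H ≃* Matrix.SpecialLinearGroup (Fin 2) (ZMod 5))) := by
  have hp : p.Prime := Fact.out
  by_cases hN : Cfsg.pPrimeCore p G = ⊥
  · obtain ⟨V, H, S⟩ := exists_setup hsolv hN hdiv hconj
    obtain ⟨π, hπV, hπH, hπ⟩ := S.exists_proj
    obtain ⟨a, ha, hVa, ρ, hρ, htr⟩ := S.linear
    have hle := count_ge π (fun h => ⟨h, hπH h⟩) S.coprime
    rcases (show a = 1 ∨ a = 2 ∨ 3 ≤ a by omega) with rfl | rfl | ha3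
    · obtain ⟨hH, hk⟩ := line_facts ρ hρ htr
      rw [pow_one] at hVa
      have hreg := S.count_regular π hπH hπ (by rw [hH, hVa]; have := hp.two_le; omega)
      exact Or.inr (Or.inl ⟨by rw [hreg, hk], S.affine π hπ hVa hH⟩)
    · rcases classes_two ρ hρ S.coprime htr with h | ⟨h11, hk, hH, ⟨e⟩⟩
      · exact Or.inl (h.trans hle)
      · subst h11
        have hcard : Nat.card H + 1 = Nat.card V := by rw [hH, hVa]; norm_num
        refine Or.inr (Or.inr ⟨rfl, (S.count_regular π hπH hπ hcard).trans hk, ?_, H,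
          S.frobenius π hπH hπV hπ hcard (fun h => ?_), ⟨e⟩⟩)
        · rw [S.card_eq, hH, hVa]; norm_num
        · rw [h, Subgroup.card_bot] at hH
          omega
    · exact Or.inl ((classes_space ρ hρ ha3 S.coprime htr).trans hle)
  · set N := Cfsg.pPrimeCore p G with hNdef
    have hNp : (Nat.card N).Coprime p := Fusion.card_pPrimeCore_coprime p G
    have hsurj := QuotientGroup.mk'_surjective N
    have hdivQ : p ∣ Nat.card (G ⧸ N) := by
      rw [← Subgroup.index_eq_card]
      exact (hNp.symm).dvd_of_dvd_mul_left (N.card_mul_index.symm ▸ hdiv)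
    obtain ⟨V, H, S⟩ := exists_setup (Solv.isPSolvable_map hp hsolv _ hsurj) Fusion.pPrimeCore_quotient_eq_bot hdivQ
      (oneClass_map hconj _ hsurj)
    obtain ⟨π, hπV, hπH, hπ⟩ := S.exists_proj
    obtain ⟨a, ha, hVa, ρ, hρ, htr⟩ := S.linear
    obtain ⟨y, hy, hy1⟩ := (Subgroup.bot_or_exists_ne_one N).resolve_left hN
    have hle := count_ge_one (π.comp (QuotientGroup.mk' N))
      ((show Function.Surjective π from fun h => ⟨h, hπH h⟩).comp hsurj) S.coprime hy1
      (fun h => hp.not_dvd_one (hNp ▸ Nat.dvd_gcd (h.trans ((Subgroup.orderOf_mk y hy).symm ▸ orderOf_dvd_natCard _)) dvd_rfl))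
      (by show π (QuotientGroup.mk' N y) = 1; rw [QuotientGroup.mk'_apply, (QuotientGroup.eq_one_iff y).2 hy, map_one])
    left
    rcases (show a = 1 ∨ a = 2 ∨ 3 ≤ a by omega) with rfl | rfl | ha3
    · obtain ⟨-, hk⟩ := line_facts ρ hρ htr
      omega
    · rcases classes_two ρ hρ S.coprime htr with h | ⟨h11, hk, hH, ⟨e⟩⟩
      · omega
      · have hcard : Nat.card H + 1 = Nat.card V := by rw [hH, hVa, h11]; norm_num
        have := extra_two S π hπV hπH hπ hN hNp h11 e hcard
        omega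
    · have := classes_space ρ hρ ha3 S.coprime htr
      omega

end Cfsg.Agent.Char.TransClass
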