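import Cfsg.Agent.Lib.Char.TransClasses.Basic
import Cfsg.Agent.Lib.Char.TransClasses.Lift
import Cfsg.Agent.Lib.Char.TransClasses.Arith
import Cfsg.Agent.Lib.Char.Blichfeldt
import Cfsg.Agent.Lib.Char.SmallDegreeFirstPower
import Cfsg.Agent.S0899

/-!
# A coprime linear group transitive on the vectors of a space of dimension at least three has `p` classes

An element of primitive prime order has cyclic centralizer `C` with at most `a` conjugates of each element in it.
-/

set_option autoImplicit false
set_option linter.unusedSectionVars false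
set_option linter.style.haveILetI false

namespace Cfsg.Agent.Char.TransClass

open KThree Polynomial

variable {p a : ℕ} [Fact p.Prime] {E : Type*} [Group E] [Finite E] (ρ : E →* GL (Fin a) (ZMod p))

/-- An element commuting with one of primitive prime order has at most `a` conjugates that do. -/
theorem conj_le (hρ : Function.Injective ρ) {r : ℕ} (hprim : IsPrim p a r) {g : E} (hg : orderOf g = r) {y : E}
    (hy : y * g = g * y) : Nat.card {z : E // z * g = g * z ∧ IsConj y z} ≤ a := by
  classical
  have hcm : ∀ z : E, z * g = g * z → Commute (act ρ z) (act ρ g) := fun z hz => by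
    show act ρ z * act ρ g = act ρ g * act ρ z
    rw [← act_mul, ← act_mul, hz]
  set R := Algebra.adjoin (ZMod p) {act ρ g}
  have hRcomm : ∀ x y : R, x * y = y * x := fun x y => Subtype.ext
    (Algebra.commute_of_mem_adjoin_singleton_of_commute y.2
      (Algebra.commute_of_mem_adjoin_singleton_of_commute x.2 (Commute.refl _)).symm :)
  letI : CommRing R := { (inferInstance : Ring R) with mul_comm := hRcomm }
  haveI : Nontrivial R := ⟨⟨1, 0, fun h => by
    have h1 := congrArg Subtype.val h
    refine hprim.1.one_lt.ne' (hg ▸ (orderOf_eq_one_iff.2 (act_inj ρ hρ (LinearMap.ext fun v => ?_))))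
    rw [show v = 0 from LinearMap.congr_fun h1 v, map_zero, map_zero]⟩⟩
  haveI : NoZeroDivisors R := ⟨fun {x z} hxy => by
    by_contra h
    push Not at h
    refine h.2 (Subtype.ext (LinearMap.ext fun v => ?_))
    have h2 := LinearMap.congr_fun (congrArg Subtype.val hxy) v
    exact (injective_iff_map_eq_zero _).1 ((scalar_ring ρ hρ hprim hg
      (Algebra.commute_of_mem_adjoin_singleton_of_commute x.2 (Commute.refl _)).symm).2
      (fun e => h.1 (Subtype.ext e))) _ h2⟩
  haveI : IsDomain R := NoZeroDivisors.to_isDomain R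
  set P : Polynomial (ZMod p) := (act ρ y).charpoly with hP
  have hP0 : P ≠ 0 := (LinearMap.charpoly_monic _).ne_zero
  have hdeg : P.natDegree = a := by rw [hP, LinearMap.charpoly_natDegree]; simp
  let root : {z : E // z * g = g * z ∧ IsConj y z} → R := fun z =>
    ⟨act ρ z, (scalar_ring ρ hρ hprim hg (hcm z z.2.1)).1⟩
  have hroot : ∀ z, root z ∈ P.rootSet R := by
    intro z
    rw [Polynomial.mem_rootSet_of_ne hP0]
    apply Subtype.ext
    rw [← Subalgebra.coe_val, ← Polynomial.aeval_algHom_apply]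
    obtain ⟨c, hc⟩ := isConj_iff.1 z.2.2
    show aeval (act ρ (z : E)) P = 0
    rw [← hc, act_mul, act_mul]
    let φ : Module.End (ZMod p) (Fin a → ZMod p) →ₐ[ZMod p] Module.End (ZMod p) (Fin a → ZMod p) :=
      { toFun := fun x => act ρ c * x * act ρ c⁻¹
        map_one' := by rw [mul_one, ← act_mul, mul_inv_cancel, act_one]
        map_mul' := fun x z => by
          have e : act ρ c⁻¹ * act ρ c = 1 := by rw [← act_mul, inv_mul_cancel, act_one]
          simp only [mul_assoc]
          rw [← mul_assoc (act ρ c⁻¹) (act ρ c), e, one_mul]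
        map_zero' := by rw [mul_zero, zero_mul]
        map_add' := fun x z => by rw [mul_add, add_mul]
        commutes' := fun x => by
          rw [Algebra.algebraMap_eq_smul_one, mul_smul_comm, mul_one, smul_mul_assoc, ← act_mul,
            mul_inv_cancel, act_one] }
    have := aeval_algHom_apply φ (act ρ y) P
    rw [LinearMap.aeval_self_charpoly, map_zero] at this
    exact this
  have h1 := Nat.card_le_card_of_injective (fun z => (⟨root z, hroot z⟩ : P.rootSet R)) fun z w h =>
    Subtype.ext (act_inj ρ hρ (congrArg Subtype.val (congrArg Subtype.val h)))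
  refine h1.trans (le_trans ?_ hdeg.le)
  rw [Polynomial.rootSet_def, Nat.card_coe_set_eq, Set.ncard_coe_finset]
  exact (Multiset.toFinset_card_le _).trans (Polynomial.card_roots' _ |>.trans (by rw [Polynomial.natDegree_map]))

/-- A large centralizer gives `p` classes. -/
theorem crit (hρ : Function.Injective ρ) {r : ℕ} (hprim : IsPrim p a r) {g : E} (hg : orderOf g = r)
    (hC : a * (p - 1) < Nat.card (Subgroup.centralizer ({g} : Set E)) - 1 + a) :
    p ≤ Nat.card (ConjClasses E) := by
  classical
  set C := Subgroup.centralizer ({g} : Set E)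
  have hmem : ∀ z : E, z ∈ C ↔ z * g = g * z := fun z => Subgroup.mem_centralizer_singleton_iff
  have h := classes_ge ((C : Set E) \ {1}) a (fun h => h.2 rfl) fun x hx =>
    le_trans (Nat.card_le_card_of_injective
      (fun z : {z : E // z ∈ (C : Set E) \ {1} ∧ IsConj x z} =>
        (⟨z.1, (hmem _).1 z.2.1.1, z.2.2⟩ : {z : E // z * g = g * z ∧ IsConj x z}))
      fun z w e => Subtype.ext (congrArg Subtype.val e :)) (conj_le ρ hρ hprim hg ((hmem x).1 hx.1))
  have hT : Nat.card ((C : Set E) \ {1} : Set E) = Nat.card C - 1 := by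
    rw [Nat.card_coe_set_eq, Set.ncard_sdiff_singleton_of_mem (by exact C.one_mem), ← Nat.card_coe_set_eq]
    rfl
  rw [hT] at h
  have h1 := lt_of_lt_of_le hC h
  have := Nat.lt_of_mul_lt_mul_left h1
  omega

/-- The order is divisible by the number of nonzero vectors. -/
theorem dvd_card (ha : 0 < a) (htr : ∀ v w : Fin a → ZMod p, v ≠ 0 → w ≠ 0 → ∃ g : E, act ρ g v = w) :
    p ^ a - 1 ∣ Nat.card E := by
  haveI : Nonempty (Fin a) := ⟨⟨0, ha⟩⟩
  obtain ⟨v, hv⟩ := exists_ne (0 : Fin a → ZMod p)
  exact ⟨_, orbit_stab ρ hv fun w hw => htr v w hv hw⟩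

/-- Dimension at least three: at least `p` classes. -/
theorem classes_space (hρ : Function.Injective ρ) (ha : 3 ≤ a) (hcop : ¬ p ∣ Nat.card E)
    (htr : ∀ v w : Fin a → ZMod p, v ≠ 0 → w ≠ 0 → ∃ g : E, act ρ g v = w) :
    p ≤ Nat.card (ConjClasses E) := by
  classical
  have hp : p.Prime := Fact.out
  have hdvd := dvd_card ρ (by omega) htr
  have hbig : p ^ a - 1 ≤ Nat.card E := Nat.le_of_dvd Nat.card_pos hdvd
  have hpa3 : p ^ 3 ≤ p ^ a := Nat.pow_le_pow_right hp.pos ha
  rcases lt_or_ge p 7 with hp7 | hp7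
  · by_contra hk
    push Not at hk
    have h42 : Nat.card E ≤ 42 := card_le_of_classes (by
      have := hp.two_le
      rcases (show p ≤ 5 ∨ p = 6 by omega) with h | h
      · omega
      · exact absurd (h ▸ hp) (by norm_num))
    have hk0 : 1 < Nat.card (ConjClasses E) := by
      have := hp.two_le
      haveI : Nontrivial E := Finite.one_lt_card_iff_nontrivial.1 (by
        have : 2 ^ 3 ≤ p ^ 3 := Nat.pow_le_pow_left this 3
        omega)
      obtain ⟨x, hx⟩ := exists_ne (1 : E)
      haveI : Nontrivial (ConjClasses E) := ⟨⟨ConjClasses.mk x, ConjClasses.mk 1, fun e => hx (by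
        rwa [ConjClasses.mk_eq_mk_iff_isConj, isConj_one_left] at e)⟩⟩
      exact Finite.one_lt_card
    have hp2 := hp.two_le
    interval_cases p
    · omega
    · -- three
      haveI : Fact (Nat.Prime 2) := ⟨Nat.prime_two⟩
      haveI : Fact (Nat.Prime 13) := ⟨by norm_num⟩
      have ha3 : a = 3 := by
        by_contra h
        have : 3 ^ 4 ≤ 3 ^ a := Nat.pow_le_pow_right (by norm_num) (by omega)
        omega
      subst ha3
      obtain ⟨x, hx⟩ := exists_prime_orderOf_dvd_card' (G := E) 2 ((by norm_num : 2 ∣ 3 ^ 3 - 1).trans hdvd)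
      obtain ⟨y, hy⟩ := exists_prime_orderOf_dvd_card' (G := E) 13 ((by norm_num : 13 ∣ 3 ^ 3 - 1).trans hdvd)
      have hord : ∀ {u v : E}, IsConj u v → orderOf u = orderOf v := fun {u v} h => by
        obtain ⟨c, rfl⟩ := isConj_iff.1 h
        exact (MulEquiv.orderOf_eq (MulAut.conj c) u).symm
      have h3 : Nat.card (Fin 3) ≤ Nat.card (ConjClasses E) :=
        Nat.card_le_card_of_injective ![ConjClasses.mk 1, ConjClasses.mk x, ConjClasses.mk y] fun i j e => by
          fin_cases i <;> fin_cases j <;> first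
            | rfl
            | (have := hord (ConjClasses.mk_eq_mk_iff_isConj.1 e); simp [hx, hy] at this)
      rw [Nat.card_fin] at h3
      omega
    · exact absurd hp (by norm_num)
    · norm_num at hpa3
      omega
    · exact absurd hp (by norm_num)
  obtain ⟨m, hm0, hma, τ, hτ⟩ := exists_rep ρ hρ (by omega) hcop htr
  have hker : ∀ g, τ g = 1 → g = 1 := fun g h => hτ (h.trans (map_one τ).symm)
  have hE0 : Nat.card E ≠ 0 := Nat.card_pos.ne'
  have hsyl : ∀ r, IsPrim p a r → ∀ x : E, orderOf x = r → a < r → ∀ R : Sylow r E, x ∈ (R : Subgroup E) →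
      (R : Subgroup E) ≤ Subgroup.centralizer ({x} : Set E) := by
    intro r hr x hx har R hxR z hz
    haveI := Fact.mk hr.1
    rw [Subgroup.mem_centralizer_singleton_iff]
    refine Blichfeldt.commute_of_primes τ hker (R : Subgroup E) (fun s hs hsd => ?_) hz hxR
    obtain ⟨i, hi⟩ := IsPGroup.iff_card.1 R.2
    rw [hi] at hsd
    rw [(Nat.prime_dvd_prime_iff_eq hs hr.1).1 (hs.dvd_of_dvd_pow hsd)]
    omega
  rcases prim_part hp hp7 ha with ⟨r, hr, hra⟩ | ⟨r, v, hr, hrv, hv, hlt⟩ | ⟨rfl, h7, h13⟩
  · -- a normal Sylow subgroup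
    haveI := Fact.mk hr.1
    obtain ⟨x, hx⟩ := exists_prime_orderOf_dvd_card' (G := E) r (hr.2.1.trans hdvd)
    obtain ⟨R, hR⟩ := (IsPGroup.of_card (n := 1) (show Nat.card (Subgroup.zpowers x) = r ^ 1 by
      rw [Nat.card_zpowers, hx, pow_one])).exists_le_sylow
    have hnorm : (R : Subgroup E).Normal := S0899.result m τ hτ r (Or.inr ⟨by omega, fun K hK Q => by
      haveI := Fintype.ofFinite K
      exact SmallBound.normal_sylow_first_power (by omega) (Nat.card K) K (τ.comp K.subtype) rfl
        (hτ.comp K.subtype_injective) hK Q⟩) R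
    have hxR : x ∈ (R : Subgroup E) := hR (Subgroup.mem_zpowers x)
    have hle := hsyl r hr x hx (by omega) R hxR
    set C := Subgroup.centralizer ({x} : Set E)
    -- the conjugates of `x` all commute with it
    have hidx : C.index ≤ a := by
      refine le_trans (le_of_eq ?_) (conj_le ρ hρ hr hx (y := x) rfl)
      have e1 : C.index = Nat.card (MulAction.orbit (ConjAct E) x) := by
        rw [Nat.card_coe_set_eq, ← MulAction.index_stabilizer, ConjAct.stabilizer_eq_centralizer]
        rfl
      rw [e1]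
      refine Nat.card_congr (Equiv.subtypeEquivRight fun z => ?_)
      rw [ConjAct.mem_orbit_conjAct, isConj_comm]
      refine ⟨fun h => ⟨?_, h⟩, fun h => h.2⟩
      obtain ⟨c, hc⟩ := isConj_iff.1 h
      exact Subgroup.mem_centralizer_singleton_iff.1 (hle (hc ▸ hnorm.conj_mem x hxR c))
    have hcard := C.card_mul_index
    have hC1 : 0 < Nat.card C := Nat.card_pos
    refine crit ρ hρ hr hx ?_
    change a * (p - 1) < Nat.card C - 1 + a
    have h1 : p ^ a - 1 ≤ Nat.card C * a := hbig.trans (hcard ▸ Nat.mul_le_mul_left _ hidx)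
    have h2 : a * (a * (p - 1)) < p ^ a - 1 := by
      obtain ⟨b, rfl⟩ : ∃ b, a = b + 3 := ⟨a - 3, by omega⟩
      have hgrow : (b + 3) * (b + 3) ≤ 7 ^ (b + 2) := by
        clear * -
        induction b with
        | zero => norm_num
        | succ n ih => rw [pow_succ]; nlinarith
      have h3 : (b + 3) * (b + 3) ≤ p ^ (b + 2) := hgrow.trans (Nat.pow_le_pow_left hp7 _)
      have h4 : (b + 3) * ((b + 3) * (p - 1)) ≤ p ^ (b + 2) * (p - 1) := by
        rw [← mul_assoc]; exact Nat.mul_le_mul_right _ h3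
      have h5 : p ^ (b + 2) * (p - 1) + p ^ (b + 2) = p ^ (b + 3) := by
        rw [← Nat.mul_succ, show (p - 1).succ = p by omega, ← pow_succ]
      have h6 : 7 ≤ p ^ (b + 2) := hp7.trans (Nat.le_self_pow (by omega) p)
      omega
    have h7 : a * (p - 1) < Nat.card C := Nat.lt_of_mul_lt_mul_left (a := a) (by rw [mul_comm a (Nat.card C)]; omega)
    omega
  · -- a large prime part
    haveI := Fact.mk hr.1
    obtain ⟨x, hx⟩ := exists_prime_orderOf_dvd_card' (G := E) r (hr.2.1.trans hdvd)
    obtain ⟨R, hR⟩ := (IsPGroup.of_card (n := 1) (show Nat.card (Subgroup.zpowers x) = r ^ 1 by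
      rw [Nat.card_zpowers, hx, pow_one])).exists_le_sylow
    have har : a < r := by
      have h1 := Nat.le_of_dvd (by have := hr.1.two_le; omega) (prime_dvd_modEq hp (by omega) hr)
      omega
    have hle := hsyl r hr x hx har R (hR (Subgroup.mem_zpowers x))
    have h1 : r ^ v ≤ Nat.card (Subgroup.centralizer ({x} : Set E)) := by
      refine le_trans ?_ (Nat.le_of_dvd Nat.card_pos (Subgroup.card_dvd_of_le hle))
      rw [R.card_eq_multiplicity]
      exact Nat.pow_le_pow_right hr.1.pos ((hr.1.pow_dvd_iff_le_factorization hE0).1 (hrv.trans hdvd))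
    exact crit ρ hρ hr hx (by omega)
  · -- degree six with seven and thirteen
    obtain ⟨U, hU1, hU2⟩ := Blichfeldt.exists_hall_aux 6 (Nat.card E) E rfl m τ hker hma
    haveI : Fact (Nat.Prime 13) := ⟨h13.1⟩
    have hU13 : ¬ 13 ∣ U.index := fun h => by have := hU2 13 h13.1 h; omega
    have h13U : 13 ∣ Nat.card U := ((Nat.Prime.dvd_mul h13.1).1 (U.card_mul_index.symm ▸ h13.2.1.trans hdvd)).resolve_right hU13
    obtain ⟨x, hx⟩ := exists_prime_orderOf_dvd_card' (G := U) 13 h13U
    have hx' : orderOf (x : E) = 13 := (Subgroup.orderOf_coe x).trans hx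
    have hle : U ≤ Subgroup.centralizer ({(x : E)} : Set E) := fun z hz =>
      Subgroup.mem_centralizer_singleton_iff.2 (Blichfeldt.commute_of_primes τ hker U
        (fun s hs hsd => by have := hU1 s hs hsd; omega) hz x.2)
    set d := p ^ 2 + p + 1
    have hd3 : p ^ 3 - 1 = (p - 1) * d := by
      obtain ⟨q, rfl⟩ : ∃ q, p = q + 1 := ⟨p - 1, by omega⟩
      have : (q + 1) ^ 3 = q * ((q + 1) ^ 2 + (q + 1) + 1) + 1 := by ring
      simp only [d, Nat.add_sub_cancel]
      omega
    have h7d : ¬ 7 ∣ d := fun h => h7.2.2 3 (by norm_num) (by norm_num) (hd3 ▸ dvd_mul_of_dvd_right h _)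
    have h13d : ¬ 13 ∣ d := fun h => h13.2.2 3 (by norm_num) (by norm_num) (hd3 ▸ dvd_mul_of_dvd_right h _)
    have hres : ∀ n : ℕ, d % n = ((p % n) ^ 2 + p % n + 1) % n := fun n => by
      simp [d, Nat.add_mod, Nat.pow_mod]
    have h2d : ¬ 2 ∣ d := fun h => by
      have := hres 2
      have : p % 2 < 2 := Nat.mod_lt _ (by norm_num)
      interval_cases h2 : p % 2 <;> omega
    have h5d : ¬ 5 ∣ d := fun h => by
      have := hres 5
      have : p % 5 < 5 := Nat.mod_lt _ (by norm_num)
      interval_cases h2 : p % 5 <;> omega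
    have h9d : ¬ 9 ∣ d := fun h => by
      have := hres 9
      have : p % 9 < 9 := Nat.mod_lt _ (by norm_num)
      interval_cases h2 : p % 9 <;> omega
    have hTco : ∀ T, T ∣ d → ¬ 3 ∣ T → Nat.Coprime (13 * T) U.index := by
      intro T hT h3
      refine Nat.Coprime.mul_left (h13.1.coprime_iff_not_dvd.2 hU13) (Nat.coprime_of_dvd fun s hs hsT hsU => ?_)
      have hs7 := hU2 s hs hsU
      have hs2 := hs.two_le
      have hsd := hsT.trans hT
      interval_cases s
      all_goals first
        | exact h2d hsd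
        | exact h5d hsd
        | exact h7d hsd
        | exact h3 hsT
        | exact absurd hs (by norm_num)
    obtain ⟨T, hT, h3T, hdT⟩ : ∃ T, T ∣ d ∧ ¬ 3 ∣ T ∧ d ≤ 3 * T := by
      by_cases h3 : 3 ∣ d
      · obtain ⟨T, hT⟩ := h3
        exact ⟨T, Dvd.intro_left 3 hT.symm, fun ⟨c, hc⟩ => h9d ⟨c, by rw [hT, hc]; ring⟩, hT.le⟩
      · exact ⟨d, dvd_rfl, h3, by omega⟩
    have h13T : 13 * T ∣ p ^ 6 - 1 := by
      refine Nat.Coprime.mul_dvd_of_dvd_of_dvd ((h13.1.coprime_iff_not_dvd).2 fun h => h13d (h.trans hT)) h13.2.1 ?_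
      refine (hT.trans (hd3 ▸ dvd_mul_left d _)).trans ?_
      simpa only [← pow_mul, one_pow, Nat.reduceMul] using (show p ^ 3 - 1 ∣ (p ^ 3) ^ 2 - 1 ^ 2 by
        rw [Nat.sq_sub_sq]; exact dvd_mul_left _ _)
    have h1 : 13 * T ∣ Nat.card U := (hTco T hT h3T).dvd_of_dvd_mul_right (U.card_mul_index.symm ▸ h13T.trans hdvd)
    refine crit ρ hρ h13 hx' ?_
    have h2 := Nat.le_of_dvd Nat.card_pos (h1.trans (Subgroup.card_dvd_of_le hle))
    have h3 : 7 * p ≤ d := by
      have := Nat.mul_le_mul_right p hp7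
      simp only [d, pow_two]
      omega
    omega

end Cfsg.Agent.Char.TransClass
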