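import Cfsg.Agent.Lib.Char.KThree.Linear
import Cfsg.Agent.Lib.Fusion.Cores
import Cfsg.Agent.Lib.Solv.PSolvHall
import Mathlib.GroupTheory.SchurZassenhaus

/-!
# The quotient by the `p'`-core: a transitive linear group over an elementary abelian group
-/

set_option autoImplicit false
set_option linter.unusedSectionVars false
set_option linter.style.haveILetI false

namespace Cfsg.Agent.Char.TransClass

variable {p : ℕ} [Fact p.Prime] {G Q : Type*} [Group G] [Finite G] [Group Q] [Finite Q]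

/-- Any two nontrivial `p`-elements are conjugate. -/
def OneClass (p : ℕ) (X : Type*) [Group X] : Prop :=
  ∀ x y : X, x ≠ 1 → y ≠ 1 → (∃ k : ℕ, orderOf x = p ^ k) → (∃ k : ℕ, orderOf y = p ^ k) → IsConj x y

/-- A preimage of the same `p`-type: a power of any preimage. -/
theorem exists_pow_lift {X Y : Type*} [Group X] [Finite X] [Group Y] [Finite Y] (f : X →* Y) (g : X) {q : ℕ} (hq : q.Prime) :
    (¬ q ∣ orderOf (f g) → ∃ i : ℕ, ¬ q ∣ orderOf (g ^ i) ∧ f (g ^ i) = f g) ∧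
      ((∃ k : ℕ, orderOf (f g) = q ^ k) → ∃ i k : ℕ, orderOf (g ^ i) = q ^ k ∧ f (g ^ i) = f g) := by
  set n := orderOf g with hn
  set e := n.factorization q
  set m := n / q ^ e
  have hn0 : n ≠ 0 := (orderOf_pos g).ne'
  have hnm : q ^ e * m = n := Nat.ordProj_mul_ordCompl_eq_self n q
  have hqm : ¬ q ∣ m := Nat.not_dvd_ordCompl hq hn0
  have hcop : (q ^ e).Coprime m := (hq.coprime_iff_not_dvd.2 hqm).pow_left e
  have hd : orderOf (f g) ∣ q ^ e * m := hnm.symm ▸ orderOf_map_dvd f g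
  refine ⟨fun h => ?_, fun ⟨k, hk⟩ => ?_⟩
  · obtain ⟨i, hi1, hi2⟩ := Nat.chineseRemainder hcop 0 1
    refine ⟨i, fun hq' => hqm (hq'.trans ?_), ?_⟩
    · refine orderOf_dvd_of_pow_eq_one ?_
      rw [← pow_mul, ← orderOf_dvd_iff_pow_eq_one, ← hn, ← hnm]
      exact Nat.mul_dvd_mul_right (Nat.modEq_zero_iff_dvd.1 hi1) m
    · conv_rhs => rw [← pow_one (f g)]
      rw [map_pow]
      exact pow_eq_pow_iff_modEq.2 (hi2.of_dvd (((hq.coprime_iff_not_dvd.2 h).symm.pow_right e).dvd_of_dvd_mul_left hd))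
  · obtain ⟨i, hi1, hi2⟩ := Nat.chineseRemainder hcop 1 0
    obtain ⟨j, -, hj⟩ := (Nat.dvd_prime_pow hq).1 (show orderOf (g ^ i) ∣ q ^ e from orderOf_dvd_of_pow_eq_one (by
      rw [← pow_mul, ← orderOf_dvd_iff_pow_eq_one, ← hn, ← hnm, mul_comm i]
      exact Nat.mul_dvd_mul_left _ (Nat.modEq_zero_iff_dvd.1 hi2)))
    refine ⟨i, j, hj, ?_⟩
    conv_rhs => rw [← pow_one (f g)]
    rw [map_pow]
    refine pow_eq_pow_iff_modEq.2 (hi1.of_dvd ?_)
    rw [hk] at hd ⊢
    exact (((hq.coprime_iff_not_dvd.2 hqm).pow_left k)).dvd_of_dvd_mul_right hd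

theorem oneClass_map (h : OneClass p G) (f : G →* Q) (hf : Function.Surjective f) : OneClass p Q := by
  intro x y hx hy hxp hyp
  obtain ⟨g, rfl⟩ := hf x
  obtain ⟨g', rfl⟩ := hf y
  obtain ⟨i, k, hi, e⟩ := (exists_pow_lift f g Fact.out).2 hxp
  obtain ⟨i', k', hi', e'⟩ := (exists_pow_lift f g' Fact.out).2 hyp
  rw [← e, ← e']
  refine f.map_isConj (h _ _ (fun h1 => hx ?_) (fun h1 => hy ?_) ⟨k, hi⟩ ⟨k', hi'⟩)
  · rw [← e, h1, map_one]
  · rw [← e', h1, map_one]

/-- A normal abelian self-centralizing subgroup of exponent `p`, a complement of order prime to `p` transitive on it. -/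
structure Setup (p : ℕ) (V H : Subgroup Q) : Prop where
  nrm : V.Normal
  compl : H.IsComplement' V
  comm : ∀ u ∈ V, ∀ v ∈ V, u * v = v * u
  exp : ∀ v ∈ V, v ^ p = 1
  nt : V ≠ ⊥
  coprime : ¬ p ∣ Nat.card H
  faith : ∀ h ∈ H, (∀ v ∈ V, h * v = v * h) → h = 1
  trans : ∀ u ∈ V, ∀ v ∈ V, u ≠ 1 → v ≠ 1 → ∃ h ∈ H, h * u * h⁻¹ = v

theorem pCore_normal {X : Type*} [Group X] : (Cfsg.pCore p X).Normal := Subgroup.sSup_normal _ fun _ h => h.1

/-- A `p`-solvable group with trivial `p'`-core, all nontrivial `p`-elements conjugate. -/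
theorem exists_setup (hsolv : Cfsg.IsPSolvable p Q) (hcore : Cfsg.pPrimeCore p Q = ⊥) (hdiv : p ∣ Nat.card Q)
    (hone : OneClass p Q) : ∃ V H : Subgroup Q, Setup p V H := by
  have hp : p.Prime := Fact.out
  haveI : Nontrivial Q := Finite.one_lt_card_iff_nontrivial.1 (hp.one_lt.trans_le (Nat.le_of_dvd Nat.card_pos hdiv))
  obtain ⟨N, hN, hNne, hNp⟩ := Solv.exists_normal_pgroup_or_coprime hsolv
  have hNp' : IsPGroup p N := hNp.resolve_right fun h => hNne (le_bot_iff.1 (hcore ▸ Fusion.le_pPrimeCore h))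
  haveI := hN
  set V := Cfsg.pCore p Q with hV
  have hVp : IsPGroup p V := Fusion.isPGroup_pCore p Q
  haveI hVn : V.Normal := Cfsg.Agent.Char.TransClass.pCore_normal
  have hVne : V ≠ ⊥ := fun h => hNne (le_bot_iff.1 (h ▸ Fusion.le_pCore hNp'))
  have hpel : ∀ {x : Q}, x ∈ V → ∃ k : ℕ, orderOf x = p ^ k := fun {x} hx => by
    obtain ⟨k, hk⟩ := IsPGroup.iff_orderOf.1 hVp ⟨x, hx⟩
    exact ⟨k, by rwa [← Subgroup.orderOf_coe] at hk⟩
  have hall : ∀ (W : Subgroup Q), W.Normal → W ≤ V → W ≠ ⊥ → ∀ x : Q, (∃ k : ℕ, orderOf x = p ^ k) → x ∈ W := by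
    intro W hW hWV hWne x hx
    by_cases hx1 : x = 1
    · exact hx1 ▸ W.one_mem
    obtain ⟨w, hw, hw1⟩ := (Subgroup.bot_or_exists_ne_one W).resolve_left hWne
    obtain ⟨c, rfl⟩ := isConj_iff.1 (hone w x hw1 hx1 (hpel (hWV hw)) hx)
    exact hW.conj_mem w hw c
  haveI : Nontrivial V := (Subgroup.nontrivial_iff_ne_bot V).2 hVne
  have hcomm : ∀ u ∈ V, ∀ v ∈ V, u * v = v * u := by
    intro u hu v hv
    have hZ : ((Subgroup.center V).map V.subtype).Normal := inferInstance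
    have := hall _ hZ (Subgroup.map_subtype_le _) (fun h => by
      haveI := hVp.center_nontrivial
      exact (Subgroup.nontrivial_iff_ne_bot _).1 inferInstance ((Subgroup.map_eq_bot_iff_of_injective _ V.subtype_injective).1 h)) u (hpel hu)
    obtain ⟨z, hz, rfl⟩ := Subgroup.mem_map.1 this
    exact (congrArg Subtype.val (Subgroup.mem_center_iff.1 hz ⟨v, hv⟩)).symm
  obtain ⟨x, hx⟩ := exists_prime_orderOf_dvd_card' (G := Q) p hdiv
  have hxV : x ∈ V := hall V hVn le_rfl hVne x ⟨1, by rw [hx, pow_one]⟩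
  have hexp : ∀ v ∈ V, v ^ p = 1 := by
    intro v hv
    by_cases hv1 : v = 1
    · rw [hv1, one_pow]
    obtain ⟨c, rfl⟩ := isConj_iff.1 (hone x v (fun h => hp.one_lt.ne' (by rw [← hx, h, orderOf_one])) hv1 (hpel hxV) (hpel hv))
    rw [conj_pow, ← hx, pow_orderOf_eq_one, mul_one, mul_inv_cancel]
  have hidx : ¬ p ∣ V.index := by
    intro hd
    obtain ⟨P⟩ := (inferInstance : Nonempty (Sylow p Q))
    refine P.not_dvd_index (hd.trans (Subgroup.index_dvd_of_le fun y hy => ?_))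
    refine hall V hVn le_rfl hVne y ?_
    obtain ⟨k, hk⟩ := IsPGroup.iff_orderOf.1 P.2 ⟨y, hy⟩
    exact ⟨k, by rwa [← Subgroup.orderOf_coe] at hk⟩
  have hcop : (Nat.card V).Coprime V.index := by
    obtain ⟨k, hk⟩ := IsPGroup.iff_card.1 hVp
    rw [hk]
    exact ((hp.coprime_iff_not_dvd.2 hidx).pow_left k)
  obtain ⟨H, hH⟩ := Subgroup.exists_left_complement'_of_coprime hcop
  have hHp : ¬ p ∣ Nat.card H := hH.index_eq_card ▸ hidx
  refine ⟨V, H, hVn, hH, hcomm, hexp, hVne, hHp, ?_, ?_⟩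
  · -- the centralizer of `V` in `H` is a normal `p'`-subgroup
    set K := H ⊓ Subgroup.centralizer (V : Set Q)
    have hK : K.Normal := ⟨fun k hk g => by
      obtain ⟨⟨h, v⟩, hhv, -⟩ := hH.existsUnique g
      change (h : Q) * (v : Q) = g at hhv
      have hkv : (v : Q) * k * (v : Q)⁻¹ = k := by
        rw [Subgroup.mem_centralizer_iff.1 hk.2 v v.2, mul_inv_cancel_right]
      have e : g * k * g⁻¹ = (h : Q) * k * (h : Q)⁻¹ := by
        rw [← hhv, mul_inv_rev]
        calc (h : Q) * (v : Q) * k * ((v : Q)⁻¹ * (h : Q)⁻¹) = (h : Q) * ((v : Q) * k * (v : Q)⁻¹) * (h : Q)⁻¹ := by group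
          _ = _ := by rw [hkv]
      rw [e]
      refine ⟨H.mul_mem (H.mul_mem h.2 hk.1) (H.inv_mem h.2), Subgroup.mem_centralizer_iff.2 fun w hw => ?_⟩
      have hw' := Subgroup.mem_centralizer_iff.1 hk.2 _ (hVn.conj_mem w hw (h : Q)⁻¹)
      rw [inv_inv] at hw'
      calc w * ((h : Q) * k * (h : Q)⁻¹) = (h : Q) * ((h : Q)⁻¹ * w * h * k) * (h : Q)⁻¹ := by group
        _ = (h : Q) * (k * ((h : Q)⁻¹ * w * h)) * (h : Q)⁻¹ := by rw [hw']
        _ = _ := by group⟩
    intro h hh hc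
    have : K = ⊥ := le_bot_iff.1 (hcore ▸ Fusion.le_pPrimeCore (hn := hK)
      (Nat.Coprime.coprime_dvd_left (Subgroup.card_dvd_of_le inf_le_left) (hp.coprime_iff_not_dvd.2 hHp).symm))
    exact Subgroup.mem_bot.1 (this ▸ ⟨hh, Subgroup.mem_centralizer_iff.2 fun v hv => (hc v hv).symm⟩)
  · intro u hu v hv hu1 hv1
    obtain ⟨c, hc⟩ := isConj_iff.1 (hone u v hu1 hv1 (hpel hu) (hpel hv))
    obtain ⟨⟨h, w⟩, hhw, -⟩ := hH.existsUnique c
    change (h : Q) * (w : Q) = c at hhw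
    refine ⟨h, h.2, ?_⟩
    rw [← hc, ← hhw, mul_inv_rev]
    calc (h : Q) * u * (h : Q)⁻¹ = (h : Q) * ((w : Q) * u * (w : Q)⁻¹) * (h : Q)⁻¹ := by
          rw [hcomm _ w.2 _ hu, mul_inv_cancel_right]
      _ = _ := by group

namespace Setup

variable {V H : Subgroup Q}

/-- The linear group. -/
theorem linear (S : Setup p V H) : ∃ a : ℕ, 0 < a ∧ Nat.card V = p ^ a ∧ ∃ ρ : H →* GL (Fin a) (ZMod p),
    Function.Injective ρ ∧ ∀ v w : Fin a → ZMod p, v ≠ 0 → w ≠ 0 → ∃ h : H, KThree.act ρ h v = w := by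
  classical
  haveI := S.nrm
  letI : CommGroup V := { (V.toGroup : Group V) with mul_comm := fun u v => Subtype.ext (S.comm _ u.2 _ v.2) }
  have hsmul : ∀ x : Additive V, p • x = 0 := fun x =>
    congrArg Additive.ofMul (Subtype.ext (S.exp _ (Additive.toMul x).2) : (Additive.toMul x) ^ p = 1)
  have : Module (ZMod p) (Additive V) := AddCommGroup.zmodModule hsmul
  haveI : Module.Finite (ZMod p) (Additive V) := Module.Finite.of_finite
  obtain ⟨a, ha⟩ : ∃ a, Module.finrank (ZMod p) (Additive V) = a := ⟨_, rfl⟩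
  have hcard : Nat.card V = p ^ a := by
    rw [Nat.card_congr Additive.ofMul, Module.natCard_eq_pow_finrank (K := ZMod p) (V := Additive V), Nat.card_zmod, ha]
  have ha0 : 0 < a := Nat.pos_of_ne_zero fun h => S.nt (Subgroup.card_eq_one.1 (by rw [hcard, h, pow_zero]))
  let b : Module.Basis (Fin a) (ZMod p) (Additive V) := Module.finBasisOfFinrankEq (ZMod p) (Additive V) ha
  let e : Additive V ≃ₗ[ZMod p] (Fin a → ZMod p) := b.equivFun
  let A₀ : H → (Additive V →ₗ[ZMod p] Additive V) := fun h =>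
    (MonoidHom.toAdditive (MulAut.conjNormal (h : Q) : MulAut V).toMonoidHom).toZModLinearMap p
  have hA₀ : ∀ (h : H) (x : Additive V),
      ((Additive.toMul (A₀ h x) : V) : Q) = (h : Q) * ((Additive.toMul x : V) : Q) * (h : Q)⁻¹ := fun h x => rfl
  let A : H →* Module.End (ZMod p) (Additive V) :=
    { toFun := A₀
      map_one' := LinearMap.ext fun x => Additive.toMul.injective (Subtype.ext (by
        rw [hA₀, Subgroup.coe_one, one_mul, inv_one, mul_one]
        rfl))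
      map_mul' := fun g h => LinearMap.ext fun x => Additive.toMul.injective (Subtype.ext (by
        rw [Module.End.mul_apply, hA₀, hA₀, hA₀, Subgroup.coe_mul, mul_inv_rev]
        group)) }
  let M : H →* Matrix (Fin a) (Fin a) (ZMod p) :=
    { toFun := fun h => LinearMap.toMatrixAlgEquiv b (A h)
      map_one' := by rw [map_one]; exact map_one (LinearMap.toMatrixAlgEquiv b)
      map_mul' := fun g h => by rw [map_mul]; exact map_mul (LinearMap.toMatrixAlgEquiv b) _ _ }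
  let ρ : H →* GL (Fin a) (ZMod p) := M.toHomUnits
  have hact : ∀ (h : H) (x : Additive V), KThree.act ρ h (e x) = e (A h x) := fun h x =>
    LinearMap.toMatrix_mulVec_repr b b (A h) x
  refine ⟨a, ha0, hcard, ρ, (injective_iff_map_eq_one ρ).2 fun h hh => Subtype.ext (S.faith h h.2 fun v hv => ?_), fun v w hv hw => ?_⟩
  · have h1 : A h = 1 := (LinearMap.toMatrixAlgEquiv b).injective
      ((congrArg Units.val hh).trans (map_one _).symm)
    have h2 := congrArg (fun z : Additive V => ((Additive.toMul z : V) : Q)) (LinearMap.congr_fun h1 (Additive.ofMul ⟨v, hv⟩))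
    have h3 : (h : Q) * v * (h : Q)⁻¹ = v := h2
    conv_rhs => rw [← h3]
    group
  · obtain ⟨h, hh, hc⟩ := S.trans _ (Additive.toMul (e.symm v)).2 _ (Additive.toMul (e.symm w)).2
      (fun h => hv (e.symm.map_eq_zero_iff.1 (Additive.toMul.injective (Subtype.ext h))))
      (fun h => hw (e.symm.map_eq_zero_iff.1 (Additive.toMul.injective (Subtype.ext h))))
    refine ⟨⟨h, hh⟩, ?_⟩
    conv_lhs => rw [← e.apply_symm_apply v]
    rw [hact, ← e.eq_symm_apply]
    exact Additive.toMul.injective (Subtype.ext hc)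

/-- The quotient map onto the complement. -/
theorem exists_proj (S : Setup p V H) : ∃ π : Q →* H, (∀ v ∈ V, π v = 1) ∧ (∀ h : H, π h = h) ∧
    (∀ q : Q, (q * ((π q : H) : Q)⁻¹) ∈ V) := by
  haveI := S.nrm
  let e := S.compl.QuotientMulEquiv
  let π : Q →* H := e.toMonoidHom.comp (QuotientGroup.mk' V)
  have hh : ∀ h : H, π h = h := fun h => by
    apply e.symm.injective
    show e.symm (e _) = _
    rw [MulEquiv.symm_apply_apply]
    rfl
  have hv : ∀ v ∈ V, π v = 1 := fun v hv => by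
    show e (QuotientGroup.mk' V v) = 1
    rw [QuotientGroup.mk'_apply, (QuotientGroup.eq_one_iff v).2 hv, map_one]
  refine ⟨π, hv, hh, fun q => ?_⟩
  have h1 : π (q * ((π q : H) : Q)⁻¹) = 1 := by rw [map_mul, map_inv, hh, mul_inv_cancel]
  exact (QuotientGroup.eq_one_iff _).1 (e.injective (h1.trans (map_one e).symm))

/-- With a regular complement every element outside `V` is conjugate into it by an element of `V`. -/
theorem regular (S : Setup p V H) (hcard : Nat.card H + 1 = Nat.card V) :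
    (∀ h ∈ H, h ≠ 1 → ∀ v ∈ V, v * h = h * v → v = 1) ∧
      ∀ h ∈ H, h ≠ 1 → ∀ v ∈ V, ∃ w ∈ V, w * h * w⁻¹ = v * h := by
  classical
  haveI := S.nrm
  obtain ⟨u, hu, hu1⟩ := (Subgroup.bot_or_exists_ne_one V).resolve_left S.nt
  let f : H → {v : V // v ≠ 1} := fun h => ⟨⟨(h : Q) * u * (h : Q)⁻¹, S.nrm.conj_mem u hu h⟩, fun e => hu1 (by
    simpa using congrArg (fun x : V => (x : Q)) e)⟩
  have hf : Function.Surjective f := fun v => by
    obtain ⟨h, hh, e⟩ := S.trans u hu _ v.1.2 hu1 (fun e => v.2 (Subtype.ext e))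
    exact ⟨⟨h, hh⟩, Subtype.ext (Subtype.ext e)⟩
  have hcardX : Nat.card {v : V // v ≠ 1} = Nat.card H := by
    haveI := Fintype.ofFinite V
    rw [Nat.card_eq_fintype_card (α := {v : V // v ≠ 1}), Fintype.card_subtype_compl, Fintype.card_subtype_eq, ← Nat.card_eq_fintype_card, ← hcard, Nat.add_sub_cancel]
  have hinj : Function.Injective f := ((Nat.bijective_iff_surjective_and_card f).2 ⟨hf, hcardX.symm⟩).1
  have hfree : ∀ h ∈ H, h ≠ 1 → ∀ v ∈ V, v * h = h * v → v = 1 := by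
    intro h hh hne v hv hc
    by_contra hv1
    obtain ⟨g, hg⟩ := hf ⟨⟨v, hv⟩, fun e => hv1 (congrArg Subtype.val e)⟩
    have hgv : (g : Q) * u * (g : Q)⁻¹ = v := congrArg (fun x : {v : V // v ≠ 1} => (x.1 : Q)) hg
    have h2 : f (⟨h, hh⟩ * g) = f g := Subtype.ext (Subtype.ext (by
      show h * (g : Q) * u * (h * (g : Q))⁻¹ = (g : Q) * u * (g : Q)⁻¹
      rw [hgv, mul_inv_rev]
      calc h * (g : Q) * u * ((g : Q)⁻¹ * h⁻¹) = h * ((g : Q) * u * (g : Q)⁻¹) * h⁻¹ := by group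
        _ = v := by rw [hgv, ← hc, mul_inv_cancel_right]))
    exact hne (congrArg Subtype.val (mul_eq_right.1 (hinj h2)))
  refine ⟨hfree, fun h hh hne v hv => ?_⟩
  let d : V → V := fun w => ⟨(w : Q) * (h * (w : Q)⁻¹ * h⁻¹), V.mul_mem w.2 (S.nrm.conj_mem _ (V.inv_mem w.2) h)⟩
  have hd : Function.Injective d := fun w w' e => by
    have e' : (w : Q) * (h * (w : Q)⁻¹ * h⁻¹) = (w' : Q) * (h * (w' : Q)⁻¹ * h⁻¹) := congrArg Subtype.val e
    have hc : ((w' : Q)⁻¹ * w) * h = h * ((w' : Q)⁻¹ * w) := by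
      calc (w' : Q)⁻¹ * w * h = (w' : Q)⁻¹ * ((w : Q) * (h * (w : Q)⁻¹ * h⁻¹)) * (h * w) := by group
        _ = (w' : Q)⁻¹ * ((w' : Q) * (h * (w' : Q)⁻¹ * h⁻¹)) * (h * w) := by rw [e']
        _ = _ := by group
    exact (Subtype.ext (inv_mul_eq_one.1 (hfree h hh hne _ (V.mul_mem (V.inv_mem w'.2) w.2) hc))).symm
  obtain ⟨w, hw⟩ := Finite.surjective_of_injective hd ⟨v, hv⟩
  refine ⟨w, w.2, ?_⟩
  have e : (w : Q) * (h * (w : Q)⁻¹ * h⁻¹) = v := congrArg Subtype.val hw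
  rw [← e]
  group

end Setup

end Cfsg.Agent.Char.TransClass
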